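import Mathlib.AlgebraicGeometry.Limits
import Mathlib.AlgebraicGeometry.Morphisms.Separated
import Mathlib.AlgebraicGeometry.Morphisms.Immersion
import Mathlib.AlgebraicGeometry.Pullbacks

/-!
# Coproducts of separated schemes over a base (the proof is that of `AlgSpDec.HenselLift`)
-/

set_option autoImplicit false
set_option backward.isDefEq.respectTransparency false
set_option backward.isDefEq.respectTransparency.types false

universe u

open CategoryTheory CategoryTheory.Limits AlgebraicGeometry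

namespace Groth.Agent.SGA7Const

variable {S : Scheme.{u}}

/-- A coproduct of separated schemes over a base is separated. -/
theorem isSeparated_sigmaDesc {ι : Type u} {U : ι → Scheme.{u}} (f : ∀ i, U i ⟶ S) (hf : ∀ i, IsSeparated (f i)) :
    IsSeparated (Sigma.desc f) := by
  let F := Sigma.desc f
  refine ⟨IsClosedImmersion.of_isPreimmersion (pullback.diagonal F) ?_⟩
  rw [← isOpen_compl_iff, isOpen_iff_forall_mem_open]
  intro z hz
  obtain ⟨⟨i, a⟩, ha⟩ := (sigmaMk U).surjective (pullback.fst F F z)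
  obtain ⟨⟨j, b⟩, hb⟩ := (sigmaMk U).surjective (pullback.snd F F z)
  rw [sigmaMk_mk] at ha hb
  let Oi : (∐ U).Opens := (Sigma.ι U i).opensRange
  let Oj : (∐ U).Opens := (Sigma.ι U j).opensRange
  by_cases hij : i = j
  · subst hij
    let m := pullback.map (f i) (f i) F F (Sigma.ι U i) (Sigma.ι U i) (𝟙 S)
      (by rw [Category.comp_id, Sigma.ι_desc]) (by rw [Category.comp_id, Sigma.ι_desc])
    have : IsOpenImmersion m := inferInstance
    have hm : Sigma.ι U i ≫ pullback.diagonal F = pullback.diagonal (f i) ≫ m := by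
      apply pullback.hom_ext <;> simp [m]
    obtain ⟨w, hw⟩ : z ∈ Set.range m := by
      rw [Scheme.Pullback.range_map]
      exact ⟨⟨a, ha⟩, ⟨b, hb⟩⟩
    have := hf i
    refine ⟨m '' (Set.range (pullback.diagonal (f i)))ᶜ, ?_,
      m.isOpenEmbedding.isOpenMap _ (pullback.diagonal (f i)).isClosedEmbedding.isClosed_range.isOpen_compl,
      w, fun ⟨v, hv⟩ => hz ⟨Sigma.ι U i v, ?_⟩, hw⟩
    · rintro _ ⟨w', hw', rfl⟩ ⟨x, hx⟩
      apply hw'
      have hx1 : pullback.fst F F (m w') = x := by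
        rw [← hx, ← Scheme.Hom.comp_apply, pullback.diagonal_fst]; rfl
      have hx2 : Sigma.ι U i (pullback.fst (f i) (f i) w') = x := by
        rw [← hx1, ← Scheme.Hom.comp_apply, ← Scheme.Hom.comp_apply, pullback.lift_fst]
      refine ⟨pullback.fst (f i) (f i) w', m.isOpenEmbedding.injective ?_⟩
      rw [← Scheme.Hom.comp_apply, ← hm, Scheme.Hom.comp_apply, hx2, hx]
    · rw [← hw, ← hv, ← Scheme.Hom.comp_apply, hm, Scheme.Hom.comp_apply]
  · refine ⟨(pullback.fst F F ⁻¹' (Oi : Set ↥(∐ U))) ∩ (pullback.snd F F ⁻¹' (Oj : Set ↥(∐ U))), ?_,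
      (Oi.2.preimage (pullback.fst F F).continuous).inter (Oj.2.preimage (pullback.snd F F).continuous),
      ⟨a, ha⟩, ⟨b, hb⟩⟩
    rintro _ ⟨⟨a', ha'⟩, ⟨b', hb'⟩⟩ ⟨x, rfl⟩
    have hx1 : pullback.fst F F (pullback.diagonal F x) = x := by
      rw [← Scheme.Hom.comp_apply, pullback.diagonal_fst]; rfl
    have hx2 : pullback.snd F F (pullback.diagonal F x) = x := by
      rw [← Scheme.Hom.comp_apply, pullback.diagonal_snd]; rfl
    have h1 : Sigma.ι U i a' = Sigma.ι U j b' := (ha'.trans hx1).trans (hb'.trans hx2).symm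
    exact hij (congrArg Sigma.fst ((sigmaMk U).injective (a₁ := ⟨i, a'⟩) (a₂ := ⟨j, b'⟩)
      (by rw [sigmaMk_mk, sigmaMk_mk]; exact h1)))

end Groth.Agent.SGA7Const
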