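import Groth.Agent.SchTorsor.Props
import Groth.Agent.SGA7Const.SigmaSep
import Groth.Agent.EtFound.Descent
import Groth.Prelude.Def_TwC

/-!
# Torsors under constant groups: basic facts
-/

set_option autoImplicit false
set_option linter.style.haveILetI false
set_option backward.isDefEq.respectTransparency.types false

universe u

open CategoryTheory CategoryTheory.Limits MonoidalCategory CartesianMonoidalCategory MonObj AlgebraicGeometry TopologicalSpace

namespace Groth.Agent.SGA7Const

variable {P : Scheme.{u}} {Z : Type u} {G : Over P} [GrpObj G]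

theorem etale_separated (eG : G ≅ TwC.const P Z) (E : NonAbH1.TorsorSch G Scheme.fppfPrecoverage) :
    Etale E.X.hom ∧ IsSeparated E.X.hom := by
  have h' : NonAbH1.IsTorsorFor Scheme.fpqcPrecoverage E.act :=
    ⟨E.isTorsor.1, E.isTorsor.2.choose, Scheme.fppfPrecoverage_le_fpqcPrecoverage _ E.isTorsor.2.choose_spec.1,
      E.isTorsor.2.choose_spec.2⟩
  haveI := EtFound.fpqc_isSeparated.{u}
  haveI : IsIso eG.hom.left := (Over.forget P).map_isIso eG.hom
  haveI : Etale (Sigma.desc fun _ : Z => 𝟙 P) := IsZariskiLocalAtSource.sigmaDesc (P := @Etale) fun _ => inferInstance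
  haveI : IsSeparated (Sigma.desc fun _ : Z => 𝟙 P) := isSeparated_sigmaDesc _ fun _ => inferInstance
  haveI : Etale G.hom := by
    rw [← Over.w eG.hom]
    exact inferInstanceAs (Etale (eG.hom.left ≫ Sigma.desc fun _ : Z => 𝟙 P))
  haveI : IsSeparated G.hom := by
    rw [← Over.w eG.hom]
    exact inferInstanceAs (IsSeparated (eG.hom.left ≫ Sigma.desc fun _ : Z => 𝟙 P))
  exact ⟨SchTorsor.torsor_property @Etale h' inferInstance, SchTorsor.torsor_property @IsSeparated h' inferInstance⟩

/-- Points of a constant scheme with values in a connected one-point scheme are constant. -/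
theorem exists_index {K : Type u} [Field K] (U : Over P) (i : U.left ≅ Spec (CommRingCat.of K))
    (h : U ⟶ TwC.const P Z) : ∃ z : Z, h = toUnit U ≫ TwC.pt P Z z := by
  haveI : Subsingleton ↥U.left := by
    haveI : Subsingleton ↥(Spec (CommRingCat.of K)) := inferInstanceAs (Subsingleton (PrimeSpectrum K))
    exact (Scheme.homeoOfIso i).injective.subsingleton
  let x : ↥U.left := i.inv (IsLocalRing.closedPoint K)
  obtain ⟨⟨z, y⟩, hy⟩ := (sigmaMk (fun _ : Z => P)).surjective (h.left x)
  rw [sigmaMk_mk] at hy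
  refine ⟨z, ?_⟩
  ext
  have hr : Set.range h.left ⊆ Set.range (Sigma.ι (fun _ : Z => P) z) := by
    rintro _ ⟨a, rfl⟩
    rw [Subsingleton.elim a x]
    exact ⟨y, hy⟩
  have hl := IsOpenImmersion.lift_fac (Sigma.ι (fun _ : Z => P) z) h.left hr
  have h1 : IsOpenImmersion.lift (Sigma.ι (fun _ : Z => P) z) h.left hr = U.hom := by
    have h2 := Over.w h
    rw [← hl, Category.assoc] at h2
    exact (congrArg (_ ≫ ·) (Sigma.ι_desc (fun _ : Z => 𝟙 P) z)).symm.trans h2 |> fun h3 => by simpa using h3
  rw [← hl, h1]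
  simp [TwC.pt]


end Groth.Agent.SGA7Const
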