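import Groth.Agent.SGA7Const.Sect
import Groth.Agent.SGA7Const.Basic

/-!
# Torsors under constant groups over a family with connected fibres
-/

set_option autoImplicit false
set_option linter.style.haveILetI false
set_option backward.isDefEq.respectTransparency.types false

universe u

open CategoryTheory CategoryTheory.Limits MonoidalCategory CartesianMonoidalCategory MonObj AlgebraicGeometry TopologicalSpace

namespace Groth.Agent.SGA7Const

variable {P : Scheme.{u}} {Z : Type u} {G : Over P} [GrpObj G]

variable {S : Scheme.{u}} (p : P ⟶ S) (e : S ⟶ P) (he : e ≫ p = 𝟙 S)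

/-- Fibrewise sections may be moved to pass through a given lift of the unit section. -/
theorem exists_normalised (eG : G ≅ TwC.const P Z) (E : NonAbH1.TorsorSch G Scheme.fppfPrecoverage)
    (e' : S ⟶ E.X.left) (he' : e' ≫ E.X.hom = e) (s : S)
    (h : NonAbH1.HasSectionOver E.X (pullback.fst p (S.fromSpecResidueField s))) :
    ∃ t : pullback p (S.fromSpecResidueField s) ⟶ E.X.left,
      t ≫ E.X.hom = pullback.fst p (S.fromSpecResidueField s) ∧
      pullback.lift (S.fromSpecResidueField s ≫ e) (𝟙 _) (by simp [he]) ≫ t = S.fromSpecResidueField s ≫ e' := by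
  obtain ⟨t, ht⟩ := h
  let T : Over P := Over.mk (pullback.fst p (S.fromSpecResidueField s))
  let U : Over P := Over.mk (S.fromSpecResidueField s ≫ e)
  let es : U ⟶ T := Over.homMk (pullback.lift (S.fromSpecResidueField s ≫ e) (𝟙 _) (by simp [he])) (pullback.lift_fst _ _ _)
  let tT : T ⟶ E.X := Over.homMk t ht
  let x₁ : U ⟶ E.X := Over.homMk (S.fromSpecResidueField s ≫ e') (by
    show (S.fromSpecResidueField s ≫ e') ≫ E.X.hom = S.fromSpecResidueField s ≫ e
    rw [Category.assoc, he'])
  obtain ⟨g, hg⟩ := SchTorsor.exists_div E.isTorsor.1 x₁ (es ≫ tT)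
  obtain ⟨z, hz⟩ := exists_index U (Iso.refl _) (g ≫ eG.hom)
  have hg' : g = toUnit U ≫ TwC.pt P Z z ≫ eG.inv := by
    rw [← Category.assoc, ← hz, Category.assoc, Iso.hom_inv_id, Category.comp_id]
  let t' : T ⟶ E.X := lift (toUnit T ≫ TwC.pt P Z z ≫ eG.inv) tT ≫ E.act.act
  refine ⟨t'.left, Over.w t', ?_⟩
  have h2 : es ≫ t' = x₁ := by
    have e1 : es ≫ toUnit T = toUnit U := Subsingleton.elim _ _
    show es ≫ lift _ tT ≫ E.act.act = x₁
    rw [comp_lift_assoc, reassoc_of% e1, ← hg', hg]
  exact congrArg CommaMorphism.left h2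

end Groth.Agent.SGA7Const
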