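import Groth.Agent.UnivOpen.AffineSpaceUnibranch
import Groth.Agent.UnibEtale.Chart
import Groth.Agent.H23.FinCondSch

/-!
# Smooth schemes over geometrically unibranch irreducible bases
-/

set_option autoImplicit false
set_option linter.style.haveILetI false
set_option backward.isDefEq.respectTransparency.types false

universe u

open CategoryTheory CategoryTheory.Limits AlgebraicGeometry TopologicalSpace

namespace Groth.Agent.SGA7Const

/-- A point with no proper generization. -/
def IsMx {X : Type u} [TopologicalSpace X] (x : X) : Prop := ∀ z, z ⤳ x → z = x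

variable {W S : Scheme.{u}} (g : W ⟶ S) [Smooth g]
  (hS : ∀ s : S, CAlg2.IsGeomUnibranch (S.presheaf.stalk s))

include g hS in
theorem isGeomUnibranch_of_smooth (x : W) : CAlg2.IsGeomUnibranch (W.presheaf.stalk x) := by
  obtain ⟨U, hU, V, hV, hxV, e, hstd⟩ := Smooth.exists_isStandardSmooth g x
  obtain ⟨n, φ, hC, hφ⟩ := hstd.exists_etale_mvPolynomial
  let R : Type u := MvPolynomial (ULift.{u} (Fin n)) Γ(S, U)
  let ren : R ≃+* MvPolynomial (Fin n) Γ(S, U) :=
    (MvPolynomial.renameEquiv Γ(S, U) Equiv.ulift.{u, 0}).toRingEquiv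
  let φ' : R →+* Γ(W, V) := φ.comp ren.toRingHom
  have hC' : φ'.comp MvPolynomial.C = (g.appLE U V e).hom := by
    ext a
    rw [← hC]
    show φ (MvPolynomial.rename _ (MvPolynomial.C a)) = φ (MvPolynomial.C a)
    rw [MvPolynomial.rename_C]
  have hφ' : φ'.Etale := RingHom.Etale.respectsIso.2 φ ren hφ
  letI : Algebra R Γ(W, V) := φ'.toAlgebra
  haveI : Algebra.Etale R Γ(W, V) := hφ'
  let q := (hV.primeIdealOf ⟨x, hxV⟩).asIdeal
  let P : Ideal R := q.comap (algebraMap R Γ(W, V))
  have hp : (hU.primeIdealOf ⟨g x, e hxV⟩).asIdeal = P.comap MvPolynomial.C := by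
    show _ = Ideal.comap MvPolynomial.C (Ideal.comap φ' q)
    rw [Ideal.comap_comap, hC']
    exact (congr($(IsAffineOpen.comap_primeIdealOf_appLE U hU V hV e hxV).1)).symm
  exact UnibEtale.isGeomUnibranch_of_ringEquiv (UnibEtale.stalkEquiv hV hxV).symm
    (UnibEtale.atPrime_of_etale R Γ(W, V) P q rfl
      (UnivOpen.isGeomUnibranch_localization_mvPolynomial _ P _ hp
        (UnibEtale.isGeomUnibranch_of_ringEquiv (UnibEtale.stalkEquiv hU (e hxV)) (hS (g x))))).1

theorem isMx_iff_mem_component {X : Type u} [TopologicalSpace X] [QuasiSober X] [T0Space X] {x : X} :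
    IsMx x ↔ closure {x} ∈ irreducibleComponents X := by
  refine ⟨fun h => ⟨isIrreducible_singleton.closure, fun Z hZ hle => ?_⟩, fun h z hz => ?_⟩
  · have hg := hZ.isGenericPoint_genericPoint_closure
    obtain rfl := h _ (hg.specializes (subset_closure (hle (subset_closure rfl))))
    exact (subset_closure).trans hg.def.ge
  · have h1 : closure {z} ⊆ closure {x} := h.2 isIrreducible_singleton.closure (specializes_iff_closure_subset.1 hz)
    exact ((specializes_iff_closure_subset.2 h1).antisymm hz).symm.eq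

theorem exists_isMx {X : Type u} [TopologicalSpace X] [QuasiSober X] [T0Space X] (x : X) :
    ∃ ξ, IsMx ξ ∧ ξ ⤳ x := by
  have h := irreducibleComponent_mem_irreducibleComponents x
  have hg := h.1.isGenericPoint_genericPoint (isClosed_of_mem_irreducibleComponents _ h)
  exact ⟨_, isMx_iff_mem_component.2 (by rw [hg.def]; exact h), hg.specializes mem_irreducibleComponent⟩

include g hS in
theorem isMx_unique {x ξ ξ' : W} (h : IsMx ξ) (h' : IsMx ξ') (hx : ξ ⤳ x) (hx' : ξ' ⤳ x) : ξ = ξ' := by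
  have hp : (nilradical (W.presheaf.stalk x)).IsPrime :=
    (Ideal.Quotient.isDomain_iff_prime _).1 (isGeomUnibranch_of_smooth g hS x).1.1
  have he := H23.FinCondSch.unique_component hp (isMx_iff_mem_component.1 h) (isMx_iff_mem_component.1 h')
    hx.mem_closure hx'.mem_closure
  exact ((specializes_iff_closure_subset.2 he.ge).antisymm (specializes_iff_closure_subset.2 he.le)).eq

variable [IrreducibleSpace S]

include g in
theorem map_isMx {ξ : W} (h : IsMx ξ) : g ξ = genericPoint S := by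
  obtain ⟨z, h1, h2⟩ := Flat.generalizingMap g (genericPoint_specializes (g ξ))
  rw [← h z h1, h2]

include g in
theorem exists_nhd_finite_isMx (x : W) : ∃ V : W.Opens, x ∈ V ∧ {ξ : W | ξ ∈ V ∧ IsMx ξ}.Finite := by
  obtain ⟨U, hU, hxU, -⟩ := exists_isAffineOpen_mem_and_subset (x := g x) (U := ⊤) trivial
  obtain ⟨V, hV, hxV, hVU⟩ := exists_isAffineOpen_mem_and_subset (x := x) (U := g ⁻¹ᵁ U) hxU
  refine ⟨V, hxV, ?_⟩
  haveI : IsAffine (U : Scheme.{u}) := hU
  haveI : IsAffine (V : Scheme.{u}) := hV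
  let g' := g.resLE U V hVU
  haveI : LocallyOfFiniteType g' := by
    haveI : LocallyOfFiniteType (g' ≫ U.ι) := by
      rw [Scheme.Hom.resLE_comp_ι]
      infer_instance
    exact locallyOfFiniteType_of_comp g' U.ι
  by_cases hη : genericPoint S ∈ U
  swap
  · refine Set.finite_empty.subset fun ξ hξ => hη ?_
    rw [← map_isMx g hξ.2]
    exact hVU hξ.1
  let η : U.toScheme := ⟨genericPoint S, hη⟩
  haveI : IsLocallyNoetherian (g'.fiber η) := LocallyOfFiniteType.isLocallyNoetherian (g'.fiberToSpecResidueField η)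
  haveI : CompactSpace ↥(g'.fiber η) := QuasiCompact.compactSpace_of_compactSpace (g'.fiberToSpecResidueField η)
  haveI : IsNoetherian (g'.fiber η) := {}
  have hfin : (irreducibleComponents ↥(g'.fiber η)).Finite := NoetherianSpace.finite_irreducibleComponents
  let j := g'.fiberι η ≫ V.ι
  refine (hfin.biUnion (t := fun Z => {ξ : W | ∃ γ, IsGenericPoint γ Z ∧ j γ = ξ}) fun Z hZ => ?_).subset ?_
  · refine Set.Subsingleton.finite ?_
    rintro _ ⟨γ, hγ, rfl⟩ _ ⟨γ', hγ', rfl⟩
    rw [hγ.eq hγ']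
  · rintro ξ ⟨hξV, hξ⟩
    obtain ⟨w, hw⟩ : (⟨ξ, hξV⟩ : V.toScheme) ∈ Set.range (g'.fiberι η) := by
      rw [g'.range_fiberι]
      show g' ⟨ξ, hξV⟩ = η
      apply U.ι.isOpenEmbedding.injective
      rw [← Scheme.Hom.comp_apply, Scheme.Hom.resLE_comp_ι]
      exact map_isMx g hξ
    have hjw : j w = ξ := by rw [Scheme.Hom.comp_apply, hw]; rfl
    have hc := irreducibleComponent_mem_irreducibleComponents w
    have hg := hc.1.isGenericPoint_genericPoint (isClosed_of_mem_irreducibleComponents _ hc)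
    have h1 := (hg.specializes mem_irreducibleComponent).map j.continuous
    rw [hjw] at h1
    exact Set.mem_biUnion hc ⟨_, hg, hξ _ h1⟩

include g hS in
theorem isOpen_closure_isMx {ξ : W} (hξ : IsMx ξ) : IsOpen (closure ({ξ} : Set W)) := by
  rw [isOpen_iff_forall_mem_open]
  intro y hy
  obtain ⟨V, hyV, hfin⟩ := exists_nhd_finite_isMx g y
  let F := {z : W | z ∈ V ∧ IsMx z} \ {ξ}
  refine ⟨(V : Set W) \ ⋃ z ∈ F, closure {z}, fun w hw => ?_,
    V.2.sdiff ((hfin.sdiff).isClosed_biUnion fun _ _ => isClosed_closure), hyV, fun hy' => ?_⟩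
  · obtain ⟨ξ', h1, h2⟩ := exists_isMx w
    by_cases he : ξ' = ξ
    · subst he
      exact h2.mem_closure
    · exact absurd (Set.mem_biUnion (show ξ' ∈ F from ⟨⟨h2.mem_open V.2 hw.1, h1⟩, he⟩) h2.mem_closure) hw.2
  · obtain ⟨z, hz, hzy⟩ := Set.mem_iUnion₂.1 hy'
    exact hz.2 (isMx_unique g hS hz.1.2 hξ (specializes_iff_mem_closure.2 hzy) (specializes_iff_mem_closure.2 hy))

end Groth.Agent.SGA7Const
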