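import Groth.Agent.SGA7Const.Basic
import Groth.Agent.EtFound.TopInv
import Groth.Agent.SGA7Const.Unib
import Groth.Agent.MorLib.GeomFibre
import Groth.Agent.AlgSpLib.EtLocalInst
import Mathlib.FieldTheory.IsAlgClosed.AlgebraicClosure

/-!
# Torsors under torsion-free constant groups over unibranch bases
-/

set_option autoImplicit false
set_option linter.style.haveILetI false
set_option backward.isDefEq.respectTransparency.types false

universe u

open CategoryTheory CategoryTheory.Limits MonoidalCategory CartesianMonoidalCategory MonObj AlgebraicGeometry TopologicalSpace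

attribute [local instance] CategoryTheory.Hom.monoid CategoryTheory.Hom.group

namespace Groth.Agent.SGA7Const

variable {P : Scheme.{u}} {Z : Type u} [Group Z] {G : Over P} [GrpObj G] (eG : G ≅ TwC.const P Z)
  (hG : TwC.IsConstGrp Z G eG) (E : NonAbH1.TorsorSch G Scheme.fppfPrecoverage)

/-- Translation by `z`. -/
noncomputable def tr (z : Z) : E.X ⟶ E.X :=
  lift (toUnit E.X ≫ TwC.pt P Z z ≫ eG.inv) (𝟙 E.X) ≫ E.act.act

omit [Group Z] in
theorem comp_tr {U : Over P} (a : U ⟶ E.X) (z : Z) :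
    a ≫ tr eG E z = lift (toUnit U ≫ TwC.pt P Z z ≫ eG.inv) a ≫ E.act.act := by
  rw [tr, comp_lift_assoc, Category.comp_id, ← Category.assoc a (toUnit _), Subsingleton.elim (a ≫ toUnit E.X) (toUnit U)]

include hG in
theorem tr_mul (z w : Z) : tr eG E (z * w) = tr eG E w ≫ tr eG E z := by
  rw [comp_tr, tr, tr, ← SchTorsor.act_assoc, ← MonObj.comp_mul, hG]

include hG in
theorem tr_one : tr eG E (1 : Z) = 𝟙 E.X := by
  have h1 : TwC.pt P Z (1 : Z) ≫ eG.inv = 1 := by
    have h := hG 1 1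
    rw [_root_.one_mul] at h
    exact mul_left_cancel (h.trans (_root_.mul_one _).symm)
  rw [tr, h1, MonObj.comp_one, SchTorsor.one_act_pt]

include hG in
theorem isIso_tr (z : Z) : IsIso (tr eG E z) :=
  ⟨tr eG E z⁻¹, by rw [← tr_mul eG hG, inv_mul_cancel, tr_one eG hG],
    by rw [← tr_mul eG hG, mul_inv_cancel, tr_one eG hG]⟩

omit [Group Z] in
theorem tr_free {U : Over P} [Nonempty ↥U.left] (a : U ⟶ E.X) {z z' : Z}
    (h : a ≫ tr eG E z = a ≫ tr eG E z') : z = z' := by
  rw [comp_tr, comp_tr] at h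
  have h1 := SchTorsor.act_free E.isTorsor.1 h
  have h2 : toUnit U ≫ TwC.pt P Z z = toUnit U ≫ TwC.pt P Z z' := by
    rw [← cancel_mono eG.inv, Category.assoc, Category.assoc, h1]
  obtain ⟨x⟩ := ‹Nonempty ↥U.left›
  have h3 := congrArg (fun t => t.left x) h2
  simp [TwC.pt] at h3
  rw [← sigmaMk_mk (fun _ : Z => P), ← sigmaMk_mk (fun _ : Z => P)] at h3
  exact congrArg Sigma.fst ((sigmaMk _).injective h3)

omit [Group Z] in
theorem exists_tr {K : Type u} [Field K] (a b : Spec (CommRingCat.of K) ⟶ E.X.left)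
    (h : a ≫ E.X.hom = b ≫ E.X.hom) : ∃ z : Z, b = a ≫ (tr eG E z).left := by
  let U : Over P := Over.mk (a ≫ E.X.hom)
  let a' : U ⟶ E.X := Over.homMk a rfl
  let b' : U ⟶ E.X := Over.homMk b h.symm
  obtain ⟨gm, hgm⟩ := SchTorsor.exists_div E.isTorsor.1 b' a'
  obtain ⟨z, hz⟩ := exists_index U (Iso.refl _) (gm ≫ eG.hom)
  refine ⟨z, ?_⟩
  have h2 : b' = a' ≫ tr eG E z := by
    rw [comp_tr, ← hgm, ← Category.assoc (toUnit U), ← hz, Category.assoc, Iso.hom_inv_id, Category.comp_id]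
  exact congrArg CommaMorphism.left h2

variable {S : Scheme.{u}} [IrreducibleSpace S] (hS : ∀ s : S, CAlg2.IsGeomUnibranch (S.presheaf.stalk s))
  (f : P ⟶ S) [Smooth f] (hZ : ∀ z : Z, IsOfFinOrder z → z = 1)

include hG in
theorem isMx_tr {x : E.X.left} (hx : IsMx x) (z : Z) : IsMx ((tr eG E z).left x) := by
  haveI := isIso_tr eG hG E z
  haveI : IsIso (tr eG E z).left := (Over.forget P).map_isIso (tr eG E z)
  let e := Scheme.homeoOfIso (asIso (tr eG E z).left)
  intro w hw
  have h1 := hx (e.symm w) (by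
    have := hw.map e.symm.continuous
    rwa [show e.symm ((tr eG E z).left x) = x from e.symm_apply_apply x] at this)
  rw [← h1]
  exact (e.apply_symm_apply w).symm

include eG hG hZ in
theorem eq_one_of_fixed (x : E.X.left) (z : Z) (h : (tr eG E z).left x = x) : z = 1 := by
  obtain ⟨hE, -⟩ := etale_separated eG E
  haveI := hE
  let Ω := AlgebraicClosure (E.X.left.residueField x)
  let a : Spec (CommRingCat.of Ω) ⟶ E.X.left :=
    Spec.map (CommRingCat.ofHom (algebraMap (E.X.left.residueField x) Ω)) ≫ E.X.left.fromSpecResidueField x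
  have ha : MorLib.GF.pt a = x := (Scheme.Hom.comp_apply _ _ _).trans (Scheme.fromSpecResidueField_apply _ _)
  haveI := (MorLib.GF.lifts_at E.X.hom (a ≫ E.X.hom) x
    (by rw [MorLib.GF.pt_comp, ha])).1
  have hpow : ∀ n : ℕ, (tr eG E (z ^ n)).left x = x := fun n => by
    induction n with
    | zero => rw [pow_zero, tr_one eG hG]; rfl
    | succ n ih => rw [pow_succ, tr_mul eG hG, Over.comp_left, Scheme.Hom.comp_apply, h, ih]
  let F : ℕ → {δ : Spec (CommRingCat.of Ω) ⟶ E.X.left // δ ≫ E.X.hom = a ≫ E.X.hom ∧ MorLib.GF.pt δ = x} :=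
    fun n => ⟨a ≫ (tr eG E (z ^ n)).left, by rw [Category.assoc, Over.w], by
      rw [MorLib.GF.pt_comp, ha]; exact hpow n⟩
  refine hZ z (by_contra fun hnf => ?_)
  refine not_injective_infinite_finite F fun n m hnm => injective_pow_iff_not_isOfFinOrder.2 hnf ?_
  let U : Over P := Over.mk (a ≫ E.X.hom)
  haveI : Nonempty ↥U.left := inferInstanceAs (Nonempty (PrimeSpectrum Ω))
  refine tr_free eG E (U := U) (Over.homMk a rfl) ?_
  ext1
  exact congrArg Subtype.val hnm

include hS f hZ eG hG in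
/-- Torsors under torsion-free constant groups over a smooth scheme over a unibranch base are trivial. -/
theorem hasSection : NonAbH1.HasSectionOver E.X (𝟙 P) := by
  obtain ⟨hE, hsep⟩ := etale_separated eG E
  haveI := hE
  haveI := hsep
  haveI : Smooth (E.X.hom ≫ f) := inferInstance
  have h' : NonAbH1.IsTorsorFor Scheme.fpqcPrecoverage E.act :=
    ⟨E.isTorsor.1, E.isTorsor.2.choose, Scheme.fppfPrecoverage_le_fpqcPrecoverage _ E.isTorsor.2.choose_spec.1,
      E.isTorsor.2.choose_spec.2⟩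
  haveI : Surjective E.X.hom := SchTorsor.surjective_hom h'
  have hmap : ∀ {x : E.X.left}, IsMx x → IsMx (E.X.hom x) := fun {x} hx w hw => by
    obtain ⟨x', h1, h2⟩ := Flat.generalizingMap E.X.hom hw
    rw [← h2, hx x' h1]
  have hgen : ∀ q : {q : P // IsMx q}, ∃ x : E.X.left, IsMx x ∧ E.X.hom x = q.1 := fun q => by
    obtain ⟨e, he⟩ := E.X.hom.surjective q.1
    obtain ⟨x, hx, hxe⟩ := exists_isMx e
    exact ⟨x, hx, q.2 _ (he ▸ hxe.map E.X.hom.continuous)⟩
  choose xq hxq hxq' using hgen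
  let O : {q : P // IsMx q} → E.X.left.Opens := fun q =>
    ⟨closure {xq q}, isOpen_closure_isMx (E.X.hom ≫ f) hS (hxq q)⟩
  let U : E.X.left.Opens := ⨆ q, O q
  let c := U.ι ≫ E.X.hom
  have huq : ∀ {p : P} {q q' : {q : P // IsMx q}}, q.1 ⤳ p → q'.1 ⤳ p → q = q' := fun hq hq' =>
    Subtype.ext (isMx_unique f hS (Subtype.prop _) (Subtype.prop _) hq hq')
  have hU : ∀ w : U.toScheme, ∀ q : {q : P // IsMx q}, q.1 ⤳ E.X.hom w.1 → xq q ⤳ w.1 := fun w q hq => by
    obtain ⟨q', hq'⟩ := Opens.mem_iSup.1 w.2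
    have h1 : xq q' ⤳ w.1 := specializes_iff_mem_closure.2 hq'
    have h2 : q'.1 ⤳ E.X.hom w.1 := hxq' q' ▸ h1.map E.X.hom.continuous
    rwa [huq hq h2]
  haveI : Surjective c := ⟨fun p => by
    obtain ⟨q, hq, hqp⟩ := exists_isMx p
    obtain ⟨e, he⟩ := E.X.hom.surjective p
    obtain ⟨x', hx', hxe⟩ := exists_isMx e
    have h1 : E.X.hom x' = q := isMx_unique f hS (hmap hx') hq (he ▸ hxe.map E.X.hom.continuous) hqp
    obtain ⟨r, hr1, hr2⟩ := Scheme.Pullback.exists_preimage_pullback (f := E.X.hom) (g := E.X.hom) (xq ⟨q, hq⟩) x'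
      (by rw [hxq', h1])
    let R := (pullback E.X.hom E.X.hom).fromSpecResidueField r
    obtain ⟨z, hz⟩ := exists_tr eG E (R ≫ pullback.fst E.X.hom E.X.hom) (R ≫ pullback.snd E.X.hom E.X.hom)
      (by rw [Category.assoc, Category.assoc, pullback.condition])
    have hzx : (tr eG E z).left (xq ⟨q, hq⟩) = x' := by
      obtain ⟨w0⟩ : Nonempty ↥(Spec ((pullback E.X.hom E.X.hom).residueField r)) :=
        inferInstanceAs (Nonempty (PrimeSpectrum _))
      have := congrArg (fun t => t w0) hz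
      simp only [Scheme.Hom.comp_apply] at this
      have hR : R w0 = r := Scheme.fromSpecResidueField_apply _ _
      exact (((congrArg (fun t => (tr eG E z).left (pullback.fst E.X.hom E.X.hom t)) hR).trans
        (congrArg _ hr1)).symm.trans (this.symm.trans ((congrArg _ hR).trans hr2)))
    let e' := (tr eG E z⁻¹).left e
    have hmem : xq ⟨q, hq⟩ ⤳ e' := by
      have := hxe.map (tr eG E z⁻¹).left.continuous
      rw [← hzx, ← Scheme.Hom.comp_apply, ← Over.comp_left, ← tr_mul eG hG, inv_mul_cancel, tr_one eG hG] at this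
      exact this
    refine ⟨⟨e', Opens.mem_iSup.2 ⟨⟨q, hq⟩, hmem.mem_closure⟩⟩, ?_⟩
    show E.X.hom e' = p
    rw [← Scheme.Hom.comp_apply, Over.w, he]⟩
  haveI : UniversallyInjective c := by
    refine ((tfae_universallyInjective c).out 0 1).2 ?_
    intro K _ a b hab
    let kp : ↥(Spec (CommRingCat.of K)) := IsLocalRing.closedPoint K
    have hab' : (a ≫ U.ι) ≫ E.X.hom = (b ≫ U.ι) ≫ E.X.hom := by simpa [c] using hab
    obtain ⟨q, hq, hqp⟩ := exists_isMx (E.X.hom (a kp).1)
    have hqb : q ⤳ E.X.hom (b kp).1 := by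
      have h1 : ((a ≫ U.ι) ≫ E.X.hom) kp = ((b ≫ U.ι) ≫ E.X.hom) kp := by rw [hab']
      exact (show E.X.hom (a kp).1 = E.X.hom (b kp).1 from h1) ▸ hqp
    have ha := hU (a kp) ⟨q, hq⟩ hqp
    have hb := hU (b kp) ⟨q, hq⟩ hqb
    obtain ⟨z, hz⟩ := exists_tr eG E (a ≫ U.ι) (b ≫ U.ι) hab'
    have h3 : (tr eG E z).left (a kp).1 = (b kp).1 := (congrArg (fun t => t kp) hz).symm
    have h2 : (tr eG E z).left (xq ⟨q, hq⟩) = xq ⟨q, hq⟩ :=
      isMx_unique (E.X.hom ≫ f) hS (isMx_tr eG hG E (hxq _) z) (hxq _) (h3 ▸ ha.map (tr eG E z).left.continuous) hb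
    obtain rfl := eq_one_of_fixed eG hG E hZ _ z h2
    rw [← cancel_mono U.ι, hz, tr_one eG hG, Over.id_left, Category.comp_id]
  haveI : IsOpenImmersion c := EtFound.isOpenImmersion_of_etale_univInj c
  haveI : IsIso c := (isIso_iff_isOpenImmersion_and_surjective _).2 ⟨inferInstance, inferInstance⟩
  exact ⟨inv c ≫ U.ι, by simp [c]⟩

end Groth.Agent.SGA7Const
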