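import Groth.Agent.ExtRigid.Basic
import Groth.Agent.SGA7Const.SigmaSep
import Groth.Agent.GrpSchLib.IdentityComp
import Groth.Agent.GrpSchLib.HomClosedRange
import Groth.Agent.GrpSchLib.AntiAffineHom
import Groth.Agent.SchTorsor.Props
import Groth.Agent.EtFound.Descent
import Groth.Prelude.Def_TwC
import Mathlib.AlgebraicGeometry.Morphisms.FlatMono
import Mathlib.AlgebraicGeometry.Morphisms.QuasiFinite

/-!
# Extensions of connected groups over a field by constant groups
-/

set_option autoImplicit false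
set_option linter.style.haveILetI false
set_option backward.isDefEq.respectTransparency.types false

universe u

open CategoryTheory CategoryTheory.Limits MonoidalCategory CartesianMonoidalCategory MonObj GrpObj AlgebraicGeometry

attribute [local instance] CategoryTheory.Hom.monoid CategoryTheory.Hom.group

namespace Groth.Agent.SGA7Const

variable {k : Type u} [Field k] {Z : Type u} [Group Z]
  {P E G : Over (Spec (CommRingCat.of k))} [GrpObj P] [GrpObj E] [GrpObj G]
  (eG : G ≅ TwC.const (Spec (CommRingCat.of k)) Z) {u : G ⟶ E} {v : E ⟶ P}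

omit eG in
/-- Rational points of a scheme over a field are determined by their images. -/
theorem section_point_ext {X : Scheme.{u}} (q : X ⟶ Spec (CommRingCat.of k)) (a b : Spec (CommRingCat.of k) ⟶ X)
    (ha : a ≫ q = 𝟙 _) (hb : b ≫ q = 𝟙 _)
    (h : a (IsLocalRing.closedPoint k) = b (IsLocalRing.closedPoint k)) : a = b := by
  haveI : IsPreimmersion a := by
    haveI hp : IsPreimmersion (a ≫ q) := by rw [ha]; infer_instance
    have hemb := (a ≫ q).isEmbedding
    rw [Scheme.Hom.comp_base, TopCat.coe_comp] at hemb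
    refine { isEmbedding := Topology.IsEmbedding.of_comp a.continuous q.continuous hemb, stalkMap_surjective := fun z => ?_ }
    have hs := (a ≫ q).stalkMap_surjective z
    rw [Scheme.Hom.stalkMap_comp] at hs
    exact Function.Surjective.of_comp hs
  haveI : Surjective (pullback.fst b a) := ⟨fun w => by
    obtain ⟨r, hr, -⟩ := Scheme.Pullback.exists_preimage_pullback (f := b) (g := a) w (IsLocalRing.closedPoint k)
      (by rw [Subsingleton.elim (α := PrimeSpectrum k) w (IsLocalRing.closedPoint k), h])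
    exact ⟨r, hr⟩⟩
  haveI : IsClosedImmersion (pullback.fst b a) := .of_isPreimmersion _ (by
    rw [Set.range_eq_univ.2 (pullback.fst b a).surjective]; exact isClosed_univ)
  haveI : IsIso (pullback.fst b a) := isIso_of_isClosedImmersion_of_surjective _
  have hb' : (CategoryTheory.inv (pullback.fst b a) ≫ pullback.snd b a) ≫ a = b := by
    rw [Category.assoc, ← pullback.condition, IsIso.inv_hom_id_assoc]
  have hc : CategoryTheory.inv (pullback.fst b a) ≫ pullback.snd b a = 𝟙 _ := by
    have := congrArg (· ≫ q) hb'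
    rwa [Category.assoc, ha, hb, Category.comp_id] at this
  rwa [hc, Category.id_comp] at hb'

omit eG in
theorem locallyQuasiFinite_of_etale {T V : Scheme.{u}} (g : T ⟶ V) [Etale g] : LocallyQuasiFinite g := by
  rw [HasRingHomProperty.iff_appLE (P := @LocallyQuasiFinite)]
  intro U W e
  have h1 := HasRingHomProperty.appLE @FormallyUnramified g inferInstance U W e
  have h2 := HasRingHomProperty.appLE @LocallyOfFiniteType g inferInstance U W e
  algebraize [(g.appLE U.1 W.1 e).hom]
  have : Algebra.QuasiFinite Γ(V, U) Γ(T, W) := inferInstance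
  exact this

/-- The section of index `z`. -/
noncomputable abbrev cpt (z : Z) : 𝟙_ (Over (Spec (CommRingCat.of k))) ⟶ G := TwC.pt _ Z z ≫ eG.inv

omit [GrpObj G] in
theorem cpt_one [GrpObj G] (hG : TwC.IsConstGrp Z G eG) : cpt eG (1 : Z) = 1 := by
  have h := hG 1 1
  rw [_root_.one_mul] at h
  exact mul_left_cancel (h.trans (_root_.mul_one _).symm)

theorem cpt_inv (hG : TwC.IsConstGrp Z G eG) (z : Z) : cpt eG z⁻¹ = (cpt eG z)⁻¹ := by
  refine eq_inv_of_mul_eq_one_left ?_
  have h := hG z⁻¹ z
  rw [inv_mul_cancel] at h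
  exact h.trans (cpt_one eG hG)

omit [Group Z] [GrpObj G] in
theorem eq_cpt_of_range {T : Over (Spec (CommRingCat.of k))} (g : T ⟶ G) (z : Z)
    (h : Set.range (g ≫ eG.hom).left ⊆
      Set.range (Sigma.ι (fun _ : Z => Spec (CommRingCat.of k)) z)) : g = toUnit T ≫ cpt eG z := by
  have h1 : g ≫ eG.hom = toUnit T ≫ TwC.pt _ Z z := by
    ext
    let jz := Sigma.ι (fun _ : Z => Spec (CommRingCat.of k)) z
    have hl := IsOpenImmersion.lift_fac jz (g ≫ eG.hom).left h
    have hw : IsOpenImmersion.lift jz (g ≫ eG.hom).left h = T.hom := by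
      have h2 := Over.w (g ≫ eG.hom)
      rw [← hl, Category.assoc] at h2
      simpa [jz] using h2
    rw [← hl, hw]
    simp [TwC.pt, jz]
  rw [← cancel_mono eG.hom, h1]
  simp [cpt]

omit [Group Z] [GrpObj G] in
theorem exists_cpt_of_connected {T : Over (Spec (CommRingCat.of k))} [ConnectedSpace ↥T.left] (g : T ⟶ G) :
    ∃ z : Z, g = toUnit T ≫ cpt eG z := by
  obtain ⟨t⟩ := (inferInstance : Nonempty ↥T.left)
  obtain ⟨⟨z, y⟩, hy⟩ := (sigmaMk (fun _ : Z => Spec (CommRingCat.of k))).surjective ((g ≫ eG.hom).left t)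
  rw [sigmaMk_mk] at hy
  refine ⟨z, eq_cpt_of_range eG g z ?_⟩
  let jz := fun w => Sigma.ι (fun _ : Z => Spec (CommRingCat.of k)) w
  have hcl : IsClosed ((g ≫ eG.hom).left ⁻¹' Set.range (jz z)) := by
    rw [← isOpen_compl_iff, isOpen_iff_forall_mem_open]
    intro x hx
    obtain ⟨⟨w, b⟩, hb⟩ := (sigmaMk (fun _ : Z => Spec (CommRingCat.of k))).surjective ((g ≫ eG.hom).left x)
    rw [sigmaMk_mk] at hb
    refine ⟨(g ≫ eG.hom).left ⁻¹' Set.range (jz w), ?_,
      (jz w).isOpenEmbedding.isOpen_range.preimage (g ≫ eG.hom).left.continuous, ⟨b, hb⟩⟩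
    rintro x' ⟨b', hb'⟩ ⟨a', ha'⟩
    have hwz : w = z := congrArg Sigma.fst ((sigmaMk (fun _ : Z => Spec (CommRingCat.of k))).injective
      (a₁ := ⟨w, b'⟩) (a₂ := ⟨z, a'⟩) (by rw [sigmaMk_mk, sigmaMk_mk]; exact hb'.trans ha'.symm))
    subst hwz
    exact hx ⟨b, hb⟩
  have huniv := IsClopen.eq_univ ⟨hcl, (jz z).isOpenEmbedding.isOpen_range.preimage (g ≫ eG.hom).left.continuous⟩
    ⟨t, y, hy⟩
  rintro _ ⟨x, rfl⟩
  exact huniv.ge (Set.mem_univ x)

variable (hex : NonAbH1.IsExactSeq Scheme.fppfPrecoverage u v)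

include hex eG in
/-- Rigidity over a connected base. -/
theorem aut_eq_id [ConnectedSpace ↥P.left] (φ : E ⟶ E) [IsMonHom φ] (hφu : u ≫ φ = u) (hφv : φ ≫ v = v) :
    φ = 𝟙 E := by
  haveI := hex.1
  haveI := hex.2.1
  have hloc := BalLib.hasLocSec_of_isLocallyTrivialFor v hex.2.2.2.2
  obtain ⟨d, hd⟩ := ExtRigid.exists_ker hex (φ * (𝟙 E)⁻¹) (by
    rw [MonObj.mul_comp, GrpObj.inv_comp, hφv, Category.id_comp, mul_inv_cancel])
  have hdu : ∀ {T : Over (Spec (CommRingCat.of k))} (x : T ⟶ E), (x ≫ d) ≫ u = (x ≫ φ) * x⁻¹ := fun x => by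
    rw [Category.assoc, hd, MonObj.comp_mul, GrpObj.comp_inv, Category.comp_id]
  obtain ⟨w, hw, -⟩ := hloc.existsUnique_desc d fun T a b hab => by
    obtain ⟨g, hg⟩ := ExtRigid.exists_ker hex (a⁻¹ * b) (by
      rw [MonObj.mul_comp, GrpObj.inv_comp, hab, inv_mul_cancel])
    refine ExtRigid.ker_inj hex ?_
    have hb : b = a * (g ≫ u) := by rw [hg, mul_inv_cancel_left]
    rw [hdu, hdu, hb, MonObj.mul_comp, Category.assoc, hφu, _root_.mul_inv_rev]
    rw [_root_.mul_assoc, mul_inv_cancel_left]
  obtain ⟨z, hz⟩ := exists_cpt_of_connected eG w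
  have h1 : η[E] ≫ d = 1 := by
    refine ExtRigid.ker_inj hex ?_
    rw [hdu, MonObj.one_comp, ← MonObj.one_eq_one, IsMonHom.one_hom, MonObj.one_eq_one, inv_one, _root_.mul_one]
  have h2 : cpt eG z = 1 := by
    rw [← h1, ← hw, ← Category.assoc, IsMonHom.one_hom, hz, ← Category.assoc,
      Subsingleton.elim (η[P] ≫ toUnit P) (𝟙 _), Category.id_comp]
  rw [hz, h2, MonObj.comp_one, MonObj.comp_one] at hw
  rw [← hw, MonObj.one_comp] at hd
  exact (eq_of_mul_inv_eq_one hd.symm)

include hex eG in
theorem etale_v : Etale v.left := by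
  haveI : IsIso eG.hom.left := (Over.forget _).map_isIso eG.hom
  haveI : Etale (Sigma.desc fun _ : Z => 𝟙 (Spec (CommRingCat.of k))) :=
    IsZariskiLocalAtSource.sigmaDesc (P := @Etale) fun _ => inferInstance
  haveI : Etale G.hom := by
    rw [← Over.w eG.hom]
    exact inferInstanceAs (Etale (eG.hom.left ≫ Sigma.desc fun _ : Z => 𝟙 (Spec (CommRingCat.of k))))
  have hsq : IsPullback (fst E G).left ((E ◁ u) ≫ μ[E]).left v.left v.left := hex.2.2.2.1.map (Over.forget _)
  have hfst : Etale (fst E G).left := MorphismProperty.pullback_fst (P := @Etale) E.hom G.hom inferInstance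
  have hsnd : Etale (pullback.snd v.left v.left) := by
    have hfst' : Etale (pullback.fst v.left v.left) := by
      rw [← hsq.isoPullback_inv_fst]
      exact (MorphismProperty.cancel_left_of_respectsIso @Etale _ _).2 hfst
    rw [← pullbackSymmetry_hom_comp_fst]
    infer_instance
  have hloc : NonAbH1.IsLocallyTrivialFor Scheme.fpqcPrecoverage (Over.mk v.left : Over P.left) :=
    ⟨hex.2.2.2.2.choose, Scheme.fppfPrecoverage_le_fpqcPrecoverage _ hex.2.2.2.2.choose_spec.1,
      hex.2.2.2.2.choose_spec.2⟩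
  refine IsZariskiLocalAtTarget.of_openCover (P := @Etale) P.left.affineCover fun i => ?_
  obtain ⟨V, q, hq₁, hq₂, hq₃, s, hs⟩ := SchTorsor.exists_single hloc (P.left.affineCover.f i)
  show Etale (pullback.snd v.left (P.left.affineCover.f i))
  refine MorphismProperty.of_pullback_snd_of_descendsAlong (Q := @Surjective ⊓ @Flat ⊓ @QuasiCompact)
    (g := q) ⟨⟨hq₁, hq₂⟩, hq₃⟩ ?_
  rw [← pullbackLeftPullbackSndIso_hom_snd v.left (P.left.affineCover.f i) q]
  refine (MorphismProperty.cancel_left_of_respectsIso @Etale _ _).2 ?_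
  change s ≫ v.left = _ at hs
  have e : (pullback.congrHom (rfl : v.left = v.left) hs).inv ≫ pullback.snd v.left (s ≫ v.left) =
      pullback.snd v.left (q ≫ P.left.affineCover.f i) := by
    rw [Iso.inv_comp_eq, pullback.congrHom_hom, pullback.map, pullback.lift_snd, Category.comp_id]
  rw [← e]
  refine (MorphismProperty.cancel_left_of_respectsIso @Etale _ _).2 ?_
  rw [show pullback.snd v.left (s ≫ v.left) = (pullbackLeftPullbackSndIso v.left v.left s).inv ≫ pullback.snd (pullback.snd v.left v.left) s by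
    rw [Iso.eq_inv_comp, pullbackLeftPullbackSndIso_hom_snd]]
  refine (MorphismProperty.cancel_left_of_respectsIso @Etale _ _).2 ?_
  exact MorphismProperty.pullback_snd (P := @Etale) _ _ hsnd

include hex eG in
/-- A section of the extension. -/
theorem exists_ext_section (hZ : ∀ z : Z, IsOfFinOrder z → z = 1) (hG : TwC.IsConstGrp Z G eG)
    [LocallyOfFiniteType P.hom] [ConnectedSpace ↥P.left] : ∃ s : P ⟶ E, IsMonHom s ∧ s ≫ v = 𝟙 P := by
  haveI := hex.1
  haveI := hex.2.1
  haveI := etale_v eG hex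
  haveI : LocallyOfFiniteType E.hom := by
    rw [← Over.w v]
    infer_instance
  haveI : IsLocallyNoetherian E.left := LocallyOfFiniteType.isLocallyNoetherian E.hom
  obtain ⟨E₀, _, i, _, hci, hflat, hrange, hgi, hcpt⟩ := GrpSchLib.exists_identityComponent (G := E)
  haveI : LocallyOfFinitePresentation i.left := inferInstance
  haveI : IsOpenImmersion i.left := IsOpenImmersion.of_flat_of_mono i.left
  haveI : Mono i := (Over.forget _).mono_of_mono_map (inferInstanceAs (Mono i.left))
  let f : E₀ ⟶ P := i ≫ v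
  haveI : Etale f.left := inferInstanceAs (Etale (i.left ≫ v.left))
  haveI : IsSeparated P.hom := GrpSchLib.AntiAffine.isSeparated_grp P
  haveI : LocallyOfFiniteType E₀.hom := by
    rw [← Over.w f]
    infer_instance
  haveI : QuasiCompact f.left := by
    haveI : QuasiCompact (f.left ≫ P.hom) := by
      rw [Over.w f]
      exact (quasiCompact_iff_compactSpace E₀.hom).2 hcpt
    exact QuasiCompact.of_comp f.left P.hom
  let H : Set Z := {z | ∃ a : 𝟙_ _ ⟶ E₀, a ≫ i = cpt eG z ≫ u}
  have hH : H.Finite := by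
    rw [← Set.finite_coe_iff]
    choose a ha using fun z : H => z.2
    let pt : ↥(Spec (CommRingCat.of k)) := IsLocalRing.closedPoint k
    let F : H → ↥(f.left ⁻¹' {η[P].left pt}) := fun z => ⟨(a z).left pt, by
      have h1 : a z ≫ f = η[P] := by
        show a z ≫ i ≫ v = _
        rw [← Category.assoc, ha, Category.assoc, hex.2.2.1, MonObj.comp_one, MonObj.one_eq_one]
      show f.left ((a z).left pt) = _
      rw [← Scheme.Hom.comp_apply, ← Over.comp_left, h1]⟩
    haveI : LocallyQuasiFinite f.left := locallyQuasiFinite_of_etale f.left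
    haveI : Finite ↥(f.left ⁻¹' {η[P].left pt}) := f.left.finite_preimage_singleton _
    refine Finite.of_injective F fun z z' hzz' => ?_
    have hsec : a z = a z' := by
      ext : 1
      exact section_point_ext E₀.hom (a z).left (a z').left (Over.w (a z)) (Over.w (a z')) (congrArg Subtype.val hzz')
    have h2 : cpt eG (z : Z) = cpt eG (z' : Z) := ExtRigid.ker_inj hex (by rw [← ha, ← ha, hsec])
    have h3 := congrArg (fun t => (t ≫ eG.hom).left pt) h2
    simp [cpt, TwC.pt] at h3
    rw [← sigmaMk_mk (fun _ : Z => Spec (CommRingCat.of k)), ← sigmaMk_mk (fun _ : Z => Spec (CommRingCat.of k))] at h3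
    exact Subtype.ext (congrArg Sigma.fst ((sigmaMk _).injective h3))
  have hmul : ∀ {z w : Z}, z ∈ H → w ∈ H → z * w ∈ H := by
    rintro z w ⟨a, ha⟩ ⟨b, hb⟩
    exact ⟨a * b, by rw [MonObj.mul_comp, ha, hb, ← MonObj.mul_comp, hG]⟩
  have h1 : (1 : Z) ∈ H := ⟨1, by rw [cpt_one eG hG, MonObj.one_comp, MonObj.one_comp]⟩
  have hone : ∀ z ∈ H, z = 1 := fun z hz => by
    refine hZ z ?_
    have hpow : ∀ n : ℕ, z ^ n ∈ H := fun n => by
      induction n with
      | zero => rw [pow_zero]; exact h1
      | succ n ih => rw [pow_succ]; exact hmul ih hz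
    by_contra hnf
    exact Set.infinite_of_injective_forall_mem (injective_pow_iff_not_isOfFinOrder.2 hnf) hpow hH
  haveI : IsMonHom f := inferInstanceAs (IsMonHom (i ≫ v))
  haveI : Mono f := ⟨fun {T} a b hab => by
    obtain ⟨g, hg⟩ := ExtRigid.exists_ker hex ((a⁻¹ * b) ≫ i) (by
      show _ = _
      rw [Category.assoc, MonObj.mul_comp, GrpObj.inv_comp, hab, inv_mul_cancel])
    have hg1 : g = toUnit T ≫ cpt eG (1 : Z) := eq_cpt_of_range eG g 1 (by
      rintro _ ⟨t, rfl⟩
      obtain ⟨⟨z, y⟩, hy⟩ := (sigmaMk (fun _ : Z => Spec (CommRingCat.of k))).surjective ((g ≫ eG.hom).left t)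
      rw [sigmaMk_mk] at hy
      have hy' : (cpt eG z).left y = g.left t := by
        apply (Scheme.homeoOfIso ((Over.forget _).mapIso eG)).injective
        show eG.hom.left ((cpt eG z).left y) = eG.hom.left (g.left t)
        rw [← Scheme.Hom.comp_apply, ← Scheme.Hom.comp_apply, ← Over.comp_left, ← Over.comp_left]
        rw [show cpt eG z ≫ eG.hom = TwC.pt _ Z z by rw [Category.assoc, Iso.inv_hom_id, Category.comp_id]]
        exact hy
      have hz : z ∈ H := by
        have hr : Set.range (cpt eG z ≫ u).left ⊆ Set.range i.left := by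
          rintro _ ⟨w, rfl⟩
          rw [show w = y from Subsingleton.elim (α := PrimeSpectrum k) _ _, Over.comp_left,
            Scheme.Hom.comp_apply, hy', ← Scheme.Hom.comp_apply, ← Over.comp_left, hg,
            Over.comp_left, Scheme.Hom.comp_apply]
          exact ⟨_, rfl⟩
        have hl := IsOpenImmersion.lift_fac i.left (cpt eG z ≫ u).left hr
        refine ⟨Over.homMk (IsOpenImmersion.lift i.left (cpt eG z ≫ u).left hr) ?_, ?_⟩
        · rw [← Over.w i, ← Category.assoc, hl, Over.w]
        · ext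
          exact hl
      exact ⟨y, by rw [← hone z hz]; exact hy⟩)
    rw [hg1, cpt_one eG hG, MonObj.comp_one, MonObj.one_comp] at hg
    have h2 : a⁻¹ * b = 1 := by rw [← cancel_mono i, ← hg, MonObj.one_comp]
    exact inv_mul_eq_one.1 h2⟩
  haveI : Mono f.left := inferInstanceAs (Mono ((Over.forget _).map f))
  haveI : IsOpenImmersion f.left := IsOpenImmersion.of_flat_of_mono f.left
  haveI : Surjective f.left := ⟨Set.range_eq_univ.1 (IsClopen.eq_univ
    ⟨GrpSchLib.HomClosedRange.isClosed_range f, f.left.isOpenEmbedding.isOpen_range⟩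
    ⟨_, η[E₀].left (IsLocalRing.closedPoint k), rfl⟩)⟩
  haveI : IsIso f.left := (isIso_iff_isOpenImmersion_and_surjective _).2 ⟨inferInstance, inferInstance⟩
  haveI : IsIso f := by
    haveI : IsIso ((Over.forget _).map f) := ‹IsIso f.left›
    exact isIso_of_reflects_iso f (Over.forget _)
  haveI : IsMonHom (CategoryTheory.inv f) :=
    { one_hom := by rw [IsIso.comp_inv_eq, IsMonHom.one_hom]
      mul_hom := by
        rw [IsIso.comp_inv_eq, Category.assoc, IsMonHom.mul_hom, ← Category.assoc, tensorHom_comp_tensorHom,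
          IsIso.inv_hom_id, id_tensorHom_id, Category.id_comp] }
  refine ⟨CategoryTheory.inv f ≫ i, inferInstance, ?_⟩
  rw [Category.assoc]
  exact IsIso.inv_hom_id f

end Groth.Agent.SGA7Const
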