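import Groth.Agent.SGA7Const.LatticeLoc
import Groth.Agent.SGA7Const.SigmaSep
import Groth.Agent.SchTorsor.Props
import Groth.Agent.EtFound.Descent

/-!
# The projection of an extension by a twisted lattice
-/

set_option autoImplicit false
set_option linter.style.haveILetI false
set_option backward.isDefEq.respectTransparency.types false

universe u

open CategoryTheory CategoryTheory.Limits MonoidalCategory CartesianMonoidalCategory MonObj GrpObj AlgebraicGeometry

attribute [local instance] CategoryTheory.Hom.monoid CategoryTheory.Hom.group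

namespace Groth.Agent.SGA7Const

variable {S : Scheme.{u}} {P E M : Over S} [GrpObj P] [GrpObj E] [GrpObj M] {u : M ⟶ E} {v : E ⟶ P}

/-- A property of the kernel passes to the quotient map. -/
theorem prop_quot (hex : NonAbH1.IsExactSeq Scheme.fppfPrecoverage u v)
    (Q : MorphismProperty Scheme.{u}) [Q.IsStableUnderBaseChange] [IsZariskiLocalAtTarget Q]
    [Q.DescendsAlong (@Surjective ⊓ @Flat ⊓ @QuasiCompact)] (hQ : Q M.hom) : Q v.left := by
  have hsq : IsPullback (fst E M).left ((E ◁ u) ≫ μ[E]).left v.left v.left := hex.2.2.2.1.map (Over.forget _)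
  have hfst : Q (fst E M).left := MorphismProperty.pullback_fst (P := Q) E.hom M.hom hQ
  have hsnd : Q (pullback.snd v.left v.left) := by
    have hfst' : Q (pullback.fst v.left v.left) := by
      rw [← hsq.isoPullback_inv_fst]
      exact (Q.cancel_left_of_respectsIso _ _).2 hfst
    rw [← pullbackSymmetry_hom_comp_fst]
    exact (Q.cancel_left_of_respectsIso _ _).2 hfst'
  have hloc : NonAbH1.IsLocallyTrivialFor Scheme.fpqcPrecoverage (Over.mk v.left : Over P.left) :=
    ⟨hex.2.2.2.2.choose, Scheme.fppfPrecoverage_le_fpqcPrecoverage _ hex.2.2.2.2.choose_spec.1,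
      hex.2.2.2.2.choose_spec.2⟩
  refine IsZariskiLocalAtTarget.of_openCover (P := Q) P.left.affineCover fun i => ?_
  obtain ⟨V, q, hq₁, hq₂, hq₃, s, hs⟩ := SchTorsor.exists_single hloc (P.left.affineCover.f i)
  show Q (pullback.snd v.left (P.left.affineCover.f i))
  refine MorphismProperty.of_pullback_snd_of_descendsAlong (Q := @Surjective ⊓ @Flat ⊓ @QuasiCompact)
    (g := q) ⟨⟨hq₁, hq₂⟩, hq₃⟩ ?_
  rw [← pullbackLeftPullbackSndIso_hom_snd v.left (P.left.affineCover.f i) q]
  refine (Q.cancel_left_of_respectsIso _ _).2 ?_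
  change s ≫ v.left = _ at hs
  have e : (pullback.congrHom (rfl : v.left = v.left) hs).inv ≫ pullback.snd v.left (s ≫ v.left) =
      pullback.snd v.left (q ≫ P.left.affineCover.f i) := by
    rw [Iso.inv_comp_eq, pullback.congrHom_hom, pullback.map, pullback.lift_snd, Category.comp_id]
  rw [← e]
  refine (Q.cancel_left_of_respectsIso _ _).2 ?_
  rw [show pullback.snd v.left (s ≫ v.left) = (pullbackLeftPullbackSndIso v.left v.left s).inv ≫ pullback.snd (pullback.snd v.left v.left) s by
    rw [Iso.eq_inv_comp, pullbackLeftPullbackSndIso_hom_snd]]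
  refine (Q.cancel_left_of_respectsIso _ _).2 ?_
  exact MorphismProperty.pullback_snd (P := Q) _ _ hsnd

/-- The quotient map of an extension by a twisted lattice is étale and separated. -/
theorem etale_separated_quot
    (hM : TwC.Locally S TwC.Topology.fpqc (fun S' f =>
      ∃ (r : ℕ) (e : Red.bc f M ≅ TwC.const S' (Multiplicative (Fin r → ℤ))),
        TwC.IsConstGrp (Multiplicative (Fin r → ℤ)) (Red.bc f M) e))
    (hex : NonAbH1.IsExactSeq Scheme.fppfPrecoverage u v) : Etale v.left ∧ IsSeparated v.left := by
  haveI := EtFound.fpqc_isSeparated.{u}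
  exact ⟨prop_quot hex @Etale (lattice_property hM @Etale fun U Z =>
      IsZariskiLocalAtSource.sigmaDesc (P := @Etale) fun _ => inferInstance),
    prop_quot hex @IsSeparated (lattice_property hM @IsSeparated fun U Z =>
      isSeparated_sigmaDesc _ fun _ => inferInstance)⟩

end Groth.Agent.SGA7Const
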