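import Groth.Agent.SGA7Const.LatticeInj
import Groth.Agent.SGA7Const.LatticeMor
import Groth.Prelude.Def_NonAbH1
import Mathlib.AlgebraicGeometry.Morphisms.FlatMono

/-!
# Extensions of smooth connected groups by twisted lattices split
-/

set_option autoImplicit false
set_option linter.style.haveILetI false
set_option backward.isDefEq.respectTransparency.types false

universe u

open CategoryTheory CategoryTheory.Limits MonoidalCategory CartesianMonoidalCategory MonObj GrpObj AlgebraicGeometry TopologicalSpace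

attribute [local instance] CategoryTheory.Hom.monoid CategoryTheory.Hom.group

namespace Groth.Agent.SGA7Const

variable {S : Scheme.{u}} {P E M : Over S} [GrpObj P] [GrpObj E] [GrpObj M] {u : M ⟶ E} {v : E ⟶ P}
  (W : E.left.Opens) (hW : (W : Set E.left) = unitComp E)

include hW in
/-- The projection is injective on geometric points of the unit components. -/
theorem universallyInjective_comp
    (hM : TwC.Locally S TwC.Topology.fpqc (fun S' f =>
      ∃ (r : ℕ) (e : Red.bc f M ≅ TwC.const S' (Multiplicative (Fin r → ℤ))),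
        TwC.IsConstGrp (Multiplicative (Fin r → ℤ)) (Red.bc f M) e))
    (hex : NonAbH1.IsExactSeq Scheme.fppfPrecoverage u v) [Etale v.left] :
    UniversallyInjective (W.ι ≫ v.left) := by
  haveI := hex.1
  haveI := hex.2.1
  let c := W.ι ≫ v.left
  obtain ⟨S', f, -, hsurj, -, hloc⟩ := hM
  haveI := hsurj
  rw [UniversallyInjective.iff_diagonal]
  refine ⟨fun rt => ?_⟩
  let g : pullback c c ⟶ S := pullback.fst c c ≫ W.ι ≫ E.hom
  obtain ⟨s', hs'⟩ := f.surjective (g rt)
  obtain ⟨U, hU, r, e, he⟩ := hloc s'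
  obtain ⟨e', he'⟩ := exists_lat_iso e he
  obtain ⟨z, hz1, -⟩ := Scheme.Pullback.exists_preimage_pullback (f := g) (g := U.ι ≫ f) rt ⟨s', hU⟩
    (by rw [Scheme.Hom.comp_apply]; exact hs'.symm)
  let Ω := AlgebraicClosure ((pullback g (U.ι ≫ f)).residueField z)
  let zb : Spec (CommRingCat.of Ω) ⟶ pullback g (U.ι ≫ f) :=
    Spec.map (CommRingCat.ofHom (algebraMap ((pullback g (U.ι ≫ f)).residueField z) Ω)) ≫
      (pullback g (U.ι ≫ f)).fromSpecResidueField z
  have hzb : zb (IsLocalRing.closedPoint Ω) = z := by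
    rw [Scheme.Hom.comp_apply]
    exact Scheme.fromSpecResidueField_apply _ _
  let rb := zb ≫ pullback.fst g (U.ι ≫ f)
  let w := zb ≫ pullback.snd g (U.ι ≫ f)
  let T : Over S := Over.mk (w ≫ U.ι ≫ f)
  have hT : rb ≫ g = T.hom := by
    show (zb ≫ _) ≫ g = (zb ≫ pullback.snd g (U.ι ≫ f)) ≫ U.ι ≫ f
    exact ((Category.assoc _ _ _).trans (congrArg (zb ≫ ·) pullback.condition)).trans (Category.assoc _ _ _).symm
  let a : T ⟶ compOver W := Over.homMk (rb ≫ pullback.fst c c) (by
    show (rb ≫ _) ≫ W.ι ≫ E.hom = _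
    rw [Category.assoc]
    exact hT)
  let b : T ⟶ compOver W := Over.homMk (rb ≫ pullback.snd c c) (by
    show (rb ≫ _) ≫ W.ι ≫ E.hom = _
    rw [← hT, Category.assoc]
    show rb ≫ pullback.snd c c ≫ W.ι ≫ E.hom = rb ≫ pullback.fst c c ≫ W.ι ≫ E.hom
    have h' : W.ι ≫ E.hom = c ≫ P.hom :=
      (congrArg (W.ι ≫ ·) (Over.w v).symm).trans (Category.assoc _ _ _).symm
    rw [h', pullback.condition_assoc])
  have hab : (a ≫ compIncl W) ≫ v = (b ≫ compIncl W) ≫ v := by
    apply Over.OverMorphism.ext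
    show (rb ≫ pullback.fst c c) ≫ W.ι ≫ v.left = (rb ≫ pullback.snd c c) ≫ W.ι ≫ v.left
    exact (Category.assoc rb _ _).trans ((congrArg (rb ≫ ·) pullback.condition).trans (Category.assoc rb _ _).symm)
  obtain ⟨m, hm⟩ := ExtRigid.exists_ker hex ((a ≫ compIncl W)⁻¹ * (b ≫ compIncl W)) (by
    rw [MonObj.mul_comp, GrpObj.inv_comp, hab, inv_mul_cancel])
  obtain ⟨n, hn, hmn⟩ := exists_pow_eq_one W hW hex (w ≫ U.ι ≫ f) m (by
    rw [hm]
    exact mul_mem W hW _ _ (inv_mem W hW _ (range_incl_subset W hW a)) (range_incl_subset W hW b))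
  have hm1 : m = 1 := eq_one_of_pow_eq_one (U.ι ≫ f) e' he' w m n hn hmn
  rw [hm1, MonObj.one_comp] at hm
  have heq : (rb ≫ pullback.fst c c) ≫ W.ι = (rb ≫ pullback.snd c c) ≫ W.ι :=
    congrArg (fun x : T ⟶ E => x.left) (inv_mul_eq_one.1 hm.symm)
  rw [cancel_mono] at heq
  refine ⟨(rb ≫ pullback.fst c c) (IsLocalRing.closedPoint Ω), ?_⟩
  have h1 : (rb ≫ pullback.fst c c) ≫ pullback.diagonal c = rb := by
    apply pullback.hom_ext
    · simp
    · rw [heq]
      simp
  rw [← Scheme.Hom.comp_apply, h1, Scheme.Hom.comp_apply, hzb, hz1]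

include hW in
/-- A homomorphism to the unit components is determined by its projection. -/
theorem eq_of_comp_eq [IsIso (compIncl W ≫ v)] {T : Over S} {a b : T ⟶ E}
    (ha : Set.range a.left ⊆ unitComp E) (hb : Set.range b.left ⊆ unitComp E) (h : a ≫ v = b ≫ v) : a = b := by
  obtain ⟨a', rfl⟩ := exists_lift W hW a ha
  obtain ⟨b', rfl⟩ := exists_lift W hW b hb
  rw [Category.assoc, Category.assoc, cancel_mono] at h
  rw [h]

/-- The splitting. -/
theorem splits [Smooth P.hom] [QuasiCompact P.hom] [QuasiSeparated P.hom] [GeometricallyConnected P.hom]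
    (hM : TwC.Locally S TwC.Topology.fpqc (fun S' f =>
      ∃ (r : ℕ) (e : Red.bc f M ≅ TwC.const S' (Multiplicative (Fin r → ℤ))),
        TwC.IsConstGrp (Multiplicative (Fin r → ℤ)) (Red.bc f M) e))
    (hex : NonAbH1.IsExactSeq Scheme.fppfPrecoverage u v) :
    (∀ φ : P ⟶ M, IsMonHom φ → φ = 1) ∧ ∃ s : P ⟶ E, IsMonHom s ∧ s ≫ v = 𝟙 P := by
  haveI := hex.1
  haveI := hex.2.1
  obtain ⟨he1, he2⟩ := etale_separated_quot hM hex
  have hopen : IsOpen (unitComp E) := by
    have h := isOpen_sectionComponents v.left P.hom η[P].left (Over.w η[P]) η[E].left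
      (by rw [← Over.comp_left, IsMonHom.one_hom])
    rwa [Over.w v] at h
  let W : E.left.Opens := ⟨unitComp E, hopen⟩
  have hW : (W : Set E.left) = unitComp E := rfl
  haveI := universallyInjective_comp W hW hM hex
  haveI := surjective_comp v W hW
  let cv : compOver W ⟶ P := compIncl W ≫ v
  haveI : Etale cv.left := inferInstanceAs (Etale (W.ι ≫ v.left))
  haveI : Surjective cv.left := ‹Surjective (W.ι ≫ v.left)›
  haveI : UniversallyInjective cv.left := ‹UniversallyInjective (W.ι ≫ v.left)›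
  haveI : Mono cv.left := by
    haveI : Surjective (pullback.diagonal cv.left) := (UniversallyInjective.iff_diagonal _).1 inferInstance
    haveI : IsIso (pullback.diagonal cv.left) := (isIso_iff_isOpenImmersion_and_surjective _).2 ⟨inferInstance, inferInstance⟩
    exact pullback.isIso_diagonal_iff _ |>.1 inferInstance
  haveI : IsOpenImmersion cv.left := IsOpenImmersion.of_flat_of_mono cv.left
  haveI : IsIso cv.left := (isIso_iff_isOpenImmersion_and_surjective _).2 ⟨inferInstance, inferInstance⟩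
  haveI : IsIso (compIncl W ≫ v) := by
    haveI : IsIso ((Over.forget _).map cv) := ‹IsIso cv.left›
    exact isIso_of_reflects_iso cv (Over.forget _)
  let s : P ⟶ E := CategoryTheory.inv (compIncl W ≫ v) ≫ compIncl W
  have hs : s ≫ v = 𝟙 P := by
    show (_ ≫ _) ≫ v = _
    rw [Category.assoc, IsIso.inv_hom_id]
  have hsr : ∀ {T : Over S} (x : T ⟶ P), Set.range (x ≫ s).left ⊆ unitComp E := fun x => by
    show Set.range (x ≫ _ ≫ compIncl W).left ⊆ _
    rw [← Category.assoc]
    exact range_incl_subset W hW _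
  have h3 : ∀ {T : Over S} (x : T ⟶ P), (x ≫ s) ≫ v = x := fun x => by
    rw [Category.assoc, hs, Category.comp_id]
  have hu1 : Set.range η[E].left ⊆ unitComp E := by
    rintro _ ⟨t, rfl⟩
    exact unit_mem t
  refine ⟨fun φ hφ => ?_, s, ?_, hs⟩
  · have h1 : Set.range (φ ≫ u).left ⊆ unitComp E := by
      refine range_subset_unitComp P.hom η[P].left (Over.w η[P]) (φ ≫ u).left (𝟙 S)
        (by rw [Over.w, Category.comp_id]) ?_
      rw [← Over.comp_left, IsMonHom.one_hom]
      exact hu1
    refine ExtRigid.ker_inj hex (eq_of_comp_eq W hW (v := v) h1 ?_ ?_)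
    · rw [MonObj.one_comp, one_left]
      rintro _ ⟨t, rfl⟩
      exact unit_mem _
    · rw [Category.assoc, Category.assoc, hex.2.2.1, MonObj.comp_one, MonObj.comp_one]
  · refine { one_hom := eq_of_comp_eq W hW (v := v) (hsr η[P]) hu1 ?_, mul_hom := ?_ }
    · rw [Category.assoc, hs, Category.comp_id, IsMonHom.one_hom]
    · have h2 : (s ⊗ₘ s) ≫ μ[E] = (fst P P ≫ s) * (snd P P ≫ s) := by
        rw [Hom.mul_def]
        congr 1
      rw [h2]
      refine eq_of_comp_eq W hW (v := v) (hsr μ[P]) (mul_mem W hW _ _ (hsr _) (hsr _)) ?_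
      rw [MonObj.mul_comp, h3, h3, h3, Hom.mul_def, lift_fst_snd, Category.id_comp]

end Groth.Agent.SGA7Const
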