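import Groth.Agent.SGA7Const.Sect
import Groth.Agent.H23.GeomConn
import Groth.Agent.GrpSchLib.IdentityComp
import Groth.Agent.ExtRigid.Basic
import Groth.Prelude.Def_Red

/-!
# The open subgroup of unit components
-/

set_option autoImplicit false
set_option linter.style.haveILetI false
set_option backward.isDefEq.respectTransparency.types false

universe u

open CategoryTheory CategoryTheory.Limits MonoidalCategory CartesianMonoidalCategory MonObj GrpObj AlgebraicGeometry TopologicalSpace

attribute [local instance] CategoryTheory.Hom.monoid CategoryTheory.Hom.group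

namespace Groth.Agent.SGA7Const

variable {S : Scheme.{u}} {E : Over S} [GrpObj E]

/-- The union of the unit components of the fibres. -/
abbrev unitComp (E : Over S) [GrpObj E] : Set E.left := MoreMor.sectionComponents E.hom η[E].left

omit [GrpObj E] in
theorem one_left [GrpObj E] {T : Over S} : (1 : T ⟶ E).left = T.hom ≫ η[E].left := by
  have : (toUnit T).left = T.hom := by
    rw [← Over.w (toUnit T)]
    exact (Category.comp_id _).symm
  rw [← this]
  rfl

theorem unit_apply (s : S) : E.hom (η[E].left s) = s := by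
  rw [← Scheme.Hom.comp_apply, Over.w η[E]]; rfl

theorem unit_mem (s : S) : η[E].left s ∈ unitComp E := by
  show η[E].left s ∈ connectedComponentIn _ _
  rw [unit_apply]
  exact mem_connectedComponentIn (unit_apply s)

/-- A family with connected fibres which meets the unit components along a section lies in them. -/
theorem range_subset_unitComp {T T' : Scheme.{u}} (g : T ⟶ T') [GeometricallyConnected g] (σ : T' ⟶ T)
    (hσ : σ ≫ g = 𝟙 T') (x : T ⟶ E.left) (y : T' ⟶ S) (hxy : x ≫ E.hom = g ≫ y)
    (h : Set.range (σ ≫ x) ⊆ unitComp E) : Set.range x ⊆ unitComp E := by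
  rintro _ ⟨t, rfl⟩
  let w := x (σ (g t))
  have hgσ : ∀ t', g (σ t') = t' := fun t' => by rw [← Scheme.Hom.comp_apply, hσ]; rfl
  have hq : ∀ z, E.hom (x z) = y (g z) := fun z => by rw [← Scheme.Hom.comp_apply, hxy, Scheme.Hom.comp_apply]
  have hw : E.hom w = y (g t) := by rw [hq, hgσ]
  have hwC : w ∈ connectedComponentIn (E.hom ⁻¹' {y (g t)}) (η[E].left (y (g t))) := by
    have hm : w ∈ unitComp E := h ⟨g t, rfl⟩
    show w ∈ _
    rw [← hw]
    exact hm
  show x t ∈ connectedComponentIn (E.hom ⁻¹' {E.hom (x t)}) (η[E].left (E.hom (x t)))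
  rw [hq, connectedComponentIn_eq hwC]
  refine ((g.isConnected_preimage_singleton (g t)).isPreconnected.image x x.continuous.continuousOn).subset_connectedComponentIn
    ⟨σ (g t), hgσ _, rfl⟩ ?_ ⟨t, rfl, rfl⟩
  rintro _ ⟨z, hz, rfl⟩
  show E.hom (x z) = _
  rw [hq, hz]

variable (W : E.left.Opens) (hW : (W : Set E.left) = unitComp E)

/-- The unit components as a scheme over the base. -/
noncomputable abbrev compOver : Over S := Over.mk (W.ι ≫ E.hom)

/-- Its inclusion. -/
noncomputable abbrev compIncl : compOver W ⟶ E := Over.homMk W.ι rfl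

include hW in
theorem exists_lift {T : Over S} (x : T ⟶ E) (hx : Set.range x.left ⊆ unitComp E) :
    ∃ x' : T ⟶ compOver W, x' ≫ compIncl W = x := by
  have hr : Set.range x.left ⊆ Set.range W.ι := by rwa [Scheme.Opens.range_ι, hW]
  have hl := IsOpenImmersion.lift_fac W.ι x.left hr
  refine ⟨Over.homMk (IsOpenImmersion.lift W.ι x.left hr) ?_, Over.OverMorphism.ext hl⟩
  show _ ≫ W.ι ≫ E.hom = T.hom
  rw [← Category.assoc, hl, Over.w]

include hW in
theorem range_incl_subset {T : Over S} (x : T ⟶ compOver W) : Set.range (x ≫ compIncl W).left ⊆ unitComp E := by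
  rintro _ ⟨t, rfl⟩
  rw [← hW, Over.comp_left, Scheme.Hom.comp_apply]
  exact (x.left t).2

include hW in
theorem geometricallyConnected_comp : GeometricallyConnected (W.ι ≫ E.hom) := by
  have hrange : Set.range η[E].left ⊆ Set.range W.ι := by
    rintro _ ⟨s, rfl⟩
    rw [Scheme.Opens.range_ι, hW]
    exact unit_mem s
  let e := IsOpenImmersion.lift W.ι η[E].left hrange
  have he : e ≫ W.ι ≫ E.hom = 𝟙 S := by
    rw [← Category.assoc, IsOpenImmersion.lift_fac]
    exact Over.w η[E]
  refine H23.GeomConn.of_section (W.ι ≫ E.hom) e he fun y => ?_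
  have h1 : W.ι '' ((W.ι ≫ E.hom) ⁻¹' {y}) = connectedComponentIn (E.hom ⁻¹' {y}) (η[E].left y) := by
    ext x
    constructor
    · rintro ⟨w, hw, rfl⟩
      have hm : W.ι w ∈ (W : Set E.left) := w.2
      rw [hW] at hm
      have hwy : E.hom (W.ι w) = y := hw
      rw [← hwy]
      exact hm
    · intro hx
      have hxy : E.hom x = y := connectedComponentIn_subset (E.hom ⁻¹' {y}) (η[E].left y) hx
      have hxW : x ∈ (W : Set E.left) := by
        rw [hW]
        show x ∈ connectedComponentIn _ _
        rw [hxy]
        exact hx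
      exact ⟨⟨x, hxW⟩, hxy, rfl⟩
  have h2 : _root_.IsConnected ((W.ι ≫ E.hom) ⁻¹' {y}) := by
    refine ⟨⟨e y, by show (W.ι ≫ E.hom) (e y) = y; rw [← Scheme.Hom.comp_apply, he]; rfl⟩, ?_⟩
    rw [← W.ι.isOpenEmbedding.isInducing.isPreconnected_image, h1]
    exact isPreconnected_connectedComponentIn
  haveI := isConnected_iff_connectedSpace.1 h2
  exact ((W.ι ≫ E.hom).fiberHomeo y).connectedSpace_iff.2 inferInstance

include hW in
theorem mul_mem {T : Over S} (x y : T ⟶ E) (hx : Set.range x.left ⊆ unitComp E) (hy : Set.range y.left ⊆ unitComp E) :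
    Set.range (x * y).left ⊆ unitComp E := by
  let C := compOver W
  let j := compIncl W
  let m : C ⊗ C ⟶ E := (fst C C ≫ j) * (snd C C ≫ j)
  haveI := geometricallyConnected_comp W hW
  haveI : GeometricallyConnected C.hom := geometricallyConnected_comp W hW
  haveI : GeometricallyConnected (snd C C).left :=
    inferInstanceAs (GeometricallyConnected (pullback.snd C.hom C.hom))
  obtain ⟨o, ho⟩ := exists_lift W hW (toUnit C ≫ η[E]) (by
    rintro _ ⟨t, rfl⟩
    rw [Over.comp_left, Scheme.Hom.comp_apply]
    exact unit_mem _)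
  let σ : C ⟶ C ⊗ C := lift o (𝟙 C)
  have hσm : σ ≫ m = j := by
    show σ ≫ (_ * _) = _
    rw [MonObj.comp_mul, lift_fst_assoc, lift_snd_assoc, ho, Category.id_comp]
    exact _root_.one_mul j
  have hm : Set.range m.left ⊆ unitComp E := by
    refine range_subset_unitComp (snd C C).left σ.left (by rw [← Over.comp_left, lift_snd]; rfl) m.left C.hom
      (by rw [Over.w m, Over.w (snd C C)]) ?_
    rw [← Over.comp_left, hσm]
    exact fun z hz => range_incl_subset W hW (𝟙 C) (by rwa [Category.id_comp])
  obtain ⟨x', rfl⟩ := exists_lift W hW x hx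
  obtain ⟨y', rfl⟩ := exists_lift W hW y hy
  have he : (x' ≫ j) * (y' ≫ j) = lift x' y' ≫ m := by
    show _ = _ ≫ (_ * _)
    rw [MonObj.comp_mul, lift_fst_assoc, lift_snd_assoc]
  rw [he, Over.comp_left, Scheme.Hom.comp_base, TopCat.coe_comp]
  exact (Set.range_comp_subset_range _ _).trans hm

include hW in
theorem inv_mem {T : Over S} (x : T ⟶ E) (hx : Set.range x.left ⊆ unitComp E) :
    Set.range (x⁻¹).left ⊆ unitComp E := by
  let C := compOver W
  let j := compIncl W
  haveI := geometricallyConnected_comp W hW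
  haveI : GeometricallyConnected C.hom := geometricallyConnected_comp W hW
  obtain ⟨o, ho⟩ := exists_lift W hW (1 : 𝟙_ (Over S) ⟶ E) (by
    rintro _ ⟨t, rfl⟩
    rw [one_left]
    exact unit_mem _)
  have hj : Set.range (j⁻¹ : C ⟶ E).left ⊆ unitComp E := by
    refine range_subset_unitComp C.hom o.left (Over.w o) (j⁻¹ : C ⟶ E).left (𝟙 S)
      (by rw [Over.w (j⁻¹ : C ⟶ E), Category.comp_id]) ?_
    rw [← Over.comp_left, GrpObj.comp_inv, ho, inv_one, one_left]
    rintro _ ⟨t, rfl⟩
    exact unit_mem _
  obtain ⟨x', rfl⟩ := exists_lift W hW x hx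
  rw [← GrpObj.comp_inv, Over.comp_left, Scheme.Hom.comp_base, TopCat.coe_comp]
  exact (Set.range_comp_subset_range _ _).trans hj

theorem isCompact_unitComp_fibre (s : S) :
    IsCompact (connectedComponentIn (E.hom ⁻¹' {s}) (η[E].left s)) := by
  let fs := S.fromSpecResidueField s
  let Es : Over (Spec (CommRingCat.of (S.residueField s))) := Red.bc fs E
  letI : GrpObj Es := Red.grpObj_bc fs E
  obtain ⟨G₀, _, i, _, hci, -, hr, -, hc⟩ := GrpSchLib.exists_identityComponent (G := Es)
  let m : Es.left ⟶ E.left := pullback.fst E.hom fs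
  have hm : Set.range m = E.hom ⁻¹' {s} := E.hom.range_fiberι s
  haveI : IsPreimmersion m := inferInstanceAs (IsPreimmersion (pullback.fst E.hom fs))
  let p0 := η[Es].left (IsLocalRing.closedPoint (S.residueField s))
  have hp0 : m p0 = η[E].left s := by
    have h1 : η[Es] = Functor.LaxMonoidal.ε (Over.pullback fs) ≫ (Over.pullback fs).map η[E] := rfl
    have h2 : η[Es].left ≫ m = ((Functor.LaxMonoidal.ε (Over.pullback fs)).left ≫
        pullback.fst (𝟙 S) fs) ≫ η[E].left := by
      rw [h1, Over.comp_left, Category.assoc, Category.assoc]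
      congr 1
      exact pullback.lift_fst _ _ _
    show m (η[Es].left _) = _
    rw [← Scheme.Hom.comp_apply, h2, Scheme.Hom.comp_apply]
    congr 1
    rw [Scheme.Hom.comp_apply]
    generalize (Functor.LaxMonoidal.ε (Over.pullback fs)).left (IsLocalRing.closedPoint (S.residueField s)) = w
    have h3 : pullback.fst (𝟙 S) fs w = fs (pullback.snd (𝟙 S) fs w) := by
      rw [← Scheme.Hom.comp_apply, ← pullback.condition, Category.comp_id]
    exact h3.trans (Scheme.fromSpecResidueField_apply _ _)
  haveI : CompactSpace ↥G₀.left := hc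
  have hK : IsCompact (connectedComponent p0) := hr ▸ isCompact_range i.left.continuous
  have heq : connectedComponentIn (E.hom ⁻¹' {s}) (η[E].left s) = m '' connectedComponent p0 := by
    refine Set.Subset.antisymm ?_ ?_
    · have hpre : _root_.IsPreconnected (m ⁻¹' connectedComponentIn (E.hom ⁻¹' {s}) (η[E].left s)) := by
        rw [← m.isEmbedding.isInducing.isPreconnected_image, Set.image_preimage_eq_of_subset
          (hm.symm ▸ connectedComponentIn_subset _ _)]
        exact isPreconnected_connectedComponentIn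
      intro z hz
      obtain ⟨w, rfl⟩ : z ∈ Set.range m := by rw [hm]; exact connectedComponentIn_subset _ _ hz
      refine ⟨w, hpre.subset_connectedComponent ?_ hz, rfl⟩
      show m p0 ∈ connectedComponentIn _ _
      rw [hp0]
      exact mem_connectedComponentIn (unit_apply s)
    · refine (isPreconnected_connectedComponent.image m m.continuous.continuousOn).subset_connectedComponentIn
        ⟨p0, mem_connectedComponent, hp0⟩ ?_
      rw [← hm]
      exact Set.image_subset_range _ _
  rw [heq]
  exact hK.image m.continuous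

end Groth.Agent.SGA7Const
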