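import Groth.Agent.SGA7Const.Basic
import Groth.Agent.GrpSchLib.IdentityComp
import Groth.Agent.ExtRigid.Basic
import Mathlib.AlgebraicGeometry.Geometrically.Irreducible

/-!
# Twisted lattices: local properties
-/

set_option autoImplicit false
set_option linter.style.haveILetI false
set_option backward.isDefEq.respectTransparency.types false

universe u

open CategoryTheory CategoryTheory.Limits MonoidalCategory CartesianMonoidalCategory MonObj GrpObj AlgebraicGeometry TopologicalSpace

attribute [local instance] CategoryTheory.Hom.monoid CategoryTheory.Hom.group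

namespace Groth.Agent.SGA7Const

/-- The index type in the universe of the schemes. -/
abbrev Lat (r : ℕ) : Type u := ULift.{u} (Multiplicative (Fin r → ℤ))

theorem lat_torsionFree {r : ℕ} (z : Lat.{u} r) (n : ℕ) (hn : 0 < n) (h : z ^ n = 1) : z = 1 := by
  apply ULift.ext
  apply Multiplicative.toAdd.injective
  funext i
  have h1 : (n : ℤ) * Multiplicative.toAdd z.down i = 0 := by
    have h2 : Multiplicative.toAdd ((z ^ n).down) i = Multiplicative.toAdd ((1 : Lat.{u} r).down) i := by rw [h]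
    simpa [nsmul_eq_mul] using h2
  rcases mul_eq_zero.1 h1 with h1 | h1
  · omega
  · simpa using h1

theorem exists_lat_iso {U : Scheme.{u}} {G : Over U} [GrpObj G] {r : ℕ}
    (e : G ≅ TwC.const U (Multiplicative (Fin r → ℤ))) (he : TwC.IsConstGrp (Multiplicative (Fin r → ℤ)) G e) :
    ∃ e' : G ≅ TwC.const U (Lat.{u} r), TwC.IsConstGrp (Lat.{u} r) G e' := by
  have hpt : ∀ {A : Type u} {B : Type} [Small.{u} B] (φ : A → B) (a : A),
      TwC.pt U A a ≫ TwC.constMap U φ = TwC.pt U B (φ a) := fun φ a => by ext; simp [TwC.pt, TwC.constMap]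
  let i : TwC.const U (Multiplicative (Fin r → ℤ)) ≅ TwC.const U (Lat.{u} r) :=
    { hom := TwC.constMap U (fun m => ULift.up.{u} m)
      inv := TwC.constMap U (fun m : Lat.{u} r => m.down)
      hom_inv_id := by
        ext1
        exact Sigma.hom_ext _ _ fun m => by simp [TwC.constMap]
      inv_hom_id := by
        ext1
        exact Sigma.hom_ext _ _ fun m => by simp [TwC.constMap] }
  refine ⟨e ≪≫ i, fun m n => ?_⟩
  have hi : ∀ m : Lat.{u} r, TwC.pt U (Lat.{u} r) m ≫ (e ≪≫ i).inv = TwC.pt U _ m.down ≫ e.inv := fun m => by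
    show TwC.pt U (Lat.{u} r) m ≫ TwC.constMap U _ ≫ e.inv = _
    rw [← Category.assoc, hpt]
  rw [hi, hi, hi]
  exact he m.down n.down

variable {S : Scheme.{u}} {M : Over S}

theorem lattice_property [GrpObj M]
    (hM : TwC.Locally S TwC.Topology.fpqc (fun S' f =>
      ∃ (r : ℕ) (e : Red.bc f M ≅ TwC.const S' (Multiplicative (Fin r → ℤ))),
        TwC.IsConstGrp (Multiplicative (Fin r → ℤ)) (Red.bc f M) e))
    (Q : MorphismProperty Scheme.{u}) [Q.IsStableUnderBaseChange] [IsZariskiLocalAtTarget Q]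
    [Q.DescendsAlong (@Surjective ⊓ @Flat ⊓ @QuasiCompact)]
    (h0 : ∀ (U : Scheme.{u}) (Z : Type u), Q (Sigma.desc fun _ : Z => 𝟙 U)) : Q M.hom := by
  obtain ⟨S', f, hfl, hsurj, hV, hloc⟩ := hM
  have hf : Q (pullback.snd M.hom f) := by
    choose U hU r e he using hloc
    refine IsZariskiLocalAtTarget.of_iSup_eq_top U (top_unique fun x _ => Opens.mem_iSup.2 ⟨x, hU x⟩) fun x => ?_
    obtain ⟨e', -⟩ := exists_lat_iso (e x) (he x)
    have h1 : Q (Red.bc ((U x).ι ≫ f) M).hom := by
      rw [← Over.w e'.hom]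
      haveI : IsIso e'.hom.left := (Over.forget _).map_isIso e'.hom
      exact (Q.cancel_left_of_respectsIso _ _).2 (h0 _ _)
    have h2 : Q (pullback.snd (pullback.snd M.hom f) (U x).ι) := by
      rw [← pullbackLeftPullbackSndIso_hom_snd M.hom f (U x).ι]
      exact (Q.cancel_left_of_respectsIso _ _).2 h1
    exact (Q.arrow_mk_iso_iff (morphismRestrictEq _ (Scheme.Opens.opensRange_ι (U x)))).1
      ((Q.arrow_mk_iso_iff (morphismRestrictOpensRange (pullback.snd M.hom f) (U x).ι)).2 h2)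
  refine IsZariskiLocalAtTarget.of_iSup_eq_top (fun V : S.affineOpens => V.1) (iSup_affineOpens_eq_top S) fun V => ?_
  obtain ⟨W, hW, hWV⟩ := hV V.1 V.2
  have hle : W ≤ f ⁻¹ᵁ V.1 := fun x hx => hWV.subset ⟨x, hx, rfl⟩
  haveI : IsAffine (V.1 : Scheme.{u}) := V.2
  let p := f.resLE V.1 W hle
  haveI : CompactSpace ↥(W : Scheme.{u}) := isCompact_iff_compactSpace.1 hW
  haveI : QuasiCompact p := (quasiCompact_iff_compactSpace p).2 inferInstance
  haveI : Flat p := by
    haveI := hfl
    infer_instance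
  haveI : Surjective p := ⟨fun y => by
    obtain ⟨x, hx, hxy⟩ := hWV.ge y.2
    refine ⟨⟨x, hx⟩, V.1.ι.isOpenEmbedding.injective ?_⟩
    rw [← Scheme.Hom.comp_apply, Scheme.Hom.resLE_comp_ι]
    exact hxy⟩
  have h3 : Q (pullback.snd M.hom V.1.ι) := by
    refine MorphismProperty.of_pullback_snd_of_descendsAlong (Q := @Surjective ⊓ @Flat ⊓ @QuasiCompact)
      (g := p) ⟨⟨inferInstance, inferInstance⟩, inferInstance⟩ ?_
    rw [← pullbackLeftPullbackSndIso_hom_snd M.hom V.1.ι p]
    refine (Q.cancel_left_of_respectsIso _ _).2 ?_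
    have hp : p ≫ V.1.ι = W.ι ≫ f := Scheme.Hom.resLE_comp_ι _ _
    have e : (pullback.congrHom (rfl : M.hom = M.hom) hp).hom ≫ pullback.snd M.hom (W.ι ≫ f) =
        pullback.snd M.hom (p ≫ V.1.ι) := by
      rw [pullback.congrHom_hom, pullback.map, pullback.lift_snd, Category.comp_id]
    rw [← e]
    refine (Q.cancel_left_of_respectsIso _ _).2 ?_
    rw [show pullback.snd M.hom (W.ι ≫ f) = (pullbackLeftPullbackSndIso M.hom f W.ι).inv ≫
        pullback.snd (pullback.snd M.hom f) W.ι by rw [Iso.eq_inv_comp, pullbackLeftPullbackSndIso_hom_snd]]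
    exact (Q.cancel_left_of_respectsIso _ _).2 (MorphismProperty.pullback_snd _ _ hf)
  exact (Q.arrow_mk_iso_iff (morphismRestrictEq _ (Scheme.Opens.opensRange_ι V.1))).1
    ((Q.arrow_mk_iso_iff (morphismRestrictOpensRange M.hom V.1.ι)).2 h3)

/-- Field-valued points factoring through a trivialising chart are torsion-free. -/
theorem eq_one_of_pow_eq_one [GrpObj M] {U : Scheme.{u}} (g : U ⟶ S) {r : ℕ}
    (e : Red.bc g M ≅ TwC.const U (Lat.{u} r)) (he : TwC.IsConstGrp (Lat.{u} r) (Red.bc g M) e)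
    {K : Type u} [Field K] (w : Spec (CommRingCat.of K) ⟶ U) (x : Over.mk (w ≫ g) ⟶ M)
    (n : ℕ) (hn : 0 < n) (hx : x ^ n = 1) : x = 1 := by
  let T : Over S := Over.mk (w ≫ g)
  let U' : Over U := Over.mk w
  let F := Over.pullback g
  let σ : U' ⟶ F.obj T := Over.homMk (pullback.lift (𝟙 _) w (Category.id_comp _)) (pullback.lift_snd _ _ _)
  let Φ : (T ⟶ M) → (U' ⟶ Red.bc g M) := fun y => σ ≫ F.map y
  have hmul : ∀ y y', Φ (y * y') = Φ y * Φ y' := fun y y' => by
    show σ ≫ F.map (y * y') = (σ ≫ F.map y) * (σ ≫ F.map y')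
    rw [Functor.map_mul, MonObj.comp_mul]
  have hone : Φ 1 = 1 := mul_left_cancel (a := Φ 1)
    ((hmul 1 1).symm.trans ((congrArg Φ (_root_.one_mul _)).trans (_root_.mul_one _).symm))
  have hpow : ∀ m : ℕ, Φ (x ^ m) = Φ x ^ m := fun m => by
    induction m with
    | zero => rw [pow_zero, pow_zero, hone]
    | succ m ih => rw [pow_succ, pow_succ, hmul, ih]
  have hinj : Function.Injective Φ := fun y y' h => by
    have hk : ∀ y : T ⟶ M, (Φ y).left ≫ pullback.fst M.hom g = y.left := fun y => by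
      show (pullback.lift (𝟙 _) w _ ≫ pullback.lift (pullback.fst T.hom g ≫ y.left) (pullback.snd T.hom g) _) ≫ _ = _
      rw [Category.assoc, pullback.lift_fst, pullback.lift_fst_assoc, Category.id_comp]
    ext1
    rw [← hk y, ← hk y', h]
  obtain ⟨z, hz⟩ := exists_index U' (Iso.refl _) (Φ x ≫ e.hom)
  let cz : Lat.{u} r → (U' ⟶ Red.bc g M) := fun z => toUnit U' ≫ TwC.pt U (Lat.{u} r) z ≫ e.inv
  have hzx : Φ x = cz z := by
    show _ = toUnit U' ≫ _ ≫ e.inv
    rw [← Category.assoc, ← hz, Category.assoc, Iso.hom_inv_id, Category.comp_id]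
  have hc : ∀ z z', cz (z * z') = cz z * cz z' := fun z z' => by
    show toUnit U' ≫ _ = _
    rw [← he, MonObj.comp_mul]
  have hc1 : cz 1 = 1 := mul_left_cancel (a := cz 1)
    ((hc 1 1).symm.trans ((congrArg cz (_root_.one_mul _)).trans (_root_.mul_one _).symm))
  have hcp : ∀ m : ℕ, cz (z ^ m) = cz z ^ m := fun m => by
    induction m with
    | zero => rw [pow_zero, pow_zero, hc1]
    | succ m ih => rw [pow_succ, pow_succ, hc, ih]
  have h1 : cz (z ^ n) = cz 1 := by rw [hcp, ← hzx, ← hpow, hx, hone, hc1]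
  have h2 : z ^ n = 1 := by
    have h3 := congrArg (fun t => (t ≫ e.hom).left (IsLocalRing.closedPoint K)) h1
    simp [cz, TwC.pt] at h3
    rw [← sigmaMk_mk (fun _ : Lat.{u} r => U), ← sigmaMk_mk (fun _ : Lat.{u} r => U)] at h3
    exact congrArg Sigma.fst ((sigmaMk _).injective h3)
  refine hinj ?_
  rw [hzx, lat_torsionFree z n hn h2, hc1, hone]

end Groth.Agent.SGA7Const
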