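import Groth.Agent.SGA7Const.LatticeSurj
import Groth.Agent.SGA7Const.LatticeLoc
import Mathlib.AlgebraicGeometry.Morphisms.UniversallyInjective
import Mathlib.AlgebraicGeometry.Morphisms.FormallyUnramified

/-!
# The unit components inject into the quotient
-/

set_option autoImplicit false
set_option linter.style.haveILetI false
set_option backward.isDefEq.respectTransparency.types false

universe u

open CategoryTheory CategoryTheory.Limits MonoidalCategory CartesianMonoidalCategory MonObj GrpObj AlgebraicGeometry TopologicalSpace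

attribute [local instance] CategoryTheory.Hom.monoid CategoryTheory.Hom.group

namespace Groth.Agent.SGA7Const

/-- An étale morphism has finite fibres on compact sets. -/
theorem finite_preimage_inter_compact {X Y : Scheme.{u}} (c : X ⟶ Y) [Etale c] {K : Set X} (hK : IsCompact K) (y : Y) :
    (c ⁻¹' {y} ∩ K).Finite := by
  have hV : ∀ x : X, ∃ (A : Y.Opens) (V : X.Opens), IsAffineOpen A ∧ IsAffineOpen V ∧ x ∈ V ∧ V ≤ c ⁻¹ᵁ A := by
    intro x
    obtain ⟨A, hA, hxA, -⟩ := exists_isAffineOpen_mem_and_subset (x := c x) (U := (⊤ : Y.Opens)) trivial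
    obtain ⟨V, hV, hxV, hVA⟩ := exists_isAffineOpen_mem_and_subset (show x ∈ c ⁻¹ᵁ A from hxA)
    exact ⟨A, V, hA, hV, hxV, hVA⟩
  choose A V hA hV hxV hVA using hV
  obtain ⟨t, ht⟩ := hK.elim_finite_subcover (fun x => (V x : Set X)) (fun x => (V x).isOpen)
    (fun x _ => Set.mem_iUnion.2 ⟨x, hxV x⟩)
  refine Set.Finite.subset (t.finite_toSet.biUnion fun x _ => ?_) (s := ⋃ x ∈ (t : Set X), (V x : Set X) ∩ c ⁻¹' {y}) ?_
  · haveI : IsAffine (V x : Scheme.{u}) := hV x
    haveI : IsAffine (A x : Scheme.{u}) := hA x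
    let r := c.resLE (A x) (V x) (hVA x)
    haveI : Etale r := inferInstanceAs (Etale (c.resLE (A x) (V x) (hVA x)))
    haveI : QuasiCompact r := inferInstance
    haveI : LocallyQuasiFinite r := inferInstance
    by_cases hy : y ∈ A x
    · refine ((r.finite_preimage_singleton ⟨y, hy⟩).image (V x).ι).subset ?_
      rintro z ⟨hzV, hzy⟩
      refine ⟨⟨z, hzV⟩, (A x).ι.isOpenEmbedding.injective ?_, rfl⟩
      rw [← Scheme.Hom.comp_apply, Scheme.Hom.resLE_comp_ι]
      exact hzy
    · refine Set.finite_empty.subset ?_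
      rintro z ⟨hzV, hzy⟩
      exact hy (Set.mem_singleton_iff.1 hzy ▸ hVA x hzV)
  · rintro z ⟨hzy, hzK⟩
    obtain ⟨x, hx, hzx⟩ := Set.mem_iUnion₂.1 (ht hzK)
    exact Set.mem_iUnion₂.2 ⟨x, hx, hzx, hzy⟩

variable {S : Scheme.{u}} {P E M : Over S} [GrpObj P] [GrpObj E] [GrpObj M] {u : M ⟶ E} {v : E ⟶ P}
  (W : E.left.Opens) (hW : (W : Set E.left) = unitComp E)

include hW in
/-- A point of the kernel with values in an algebraically closed field and in the unit components has finite order. -/
theorem exists_pow_eq_one (hex : NonAbH1.IsExactSeq Scheme.fppfPrecoverage u v) [Etale v.left]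
    {Ω : Type u} [Field Ω] [IsAlgClosed Ω] (tb : Spec (CommRingCat.of Ω) ⟶ S) (m : Over.mk tb ⟶ M)
    (hm : Set.range (m ≫ u).left ⊆ unitComp E) : ∃ n : ℕ, 0 < n ∧ m ^ n = 1 := by
  haveI := hex.1
  haveI := hex.2.1
  let T : Over S := Over.mk tb
  let c := W.ι ≫ v.left
  haveI : Etale c := inferInstanceAs (Etale (W.ι ≫ v.left))
  haveI : LocallyQuasiFinite c := inferInstance
  let s := tb (IsLocalRing.closedPoint Ω)
  let yb : Spec (CommRingCat.of Ω) ⟶ P.left := tb ≫ η[P].left
  have hyb : MorLib.GF.pt yb = η[P].left s := Scheme.Hom.comp_apply _ _ _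
  have hK : IsCompact ((W.ι ≫ E.hom) ⁻¹' {s}) := by
    rw [W.ι.isOpenEmbedding.isInducing.isCompact_iff]
    have h1 : W.ι '' ((W.ι ≫ E.hom) ⁻¹' {s}) = connectedComponentIn (E.hom ⁻¹' {s}) (η[E].left s) := by
      ext x
      constructor
      · rintro ⟨w, hw, rfl⟩
        have hm : W.ι w ∈ (W : Set E.left) := w.2
        rw [hW] at hm
        have hwy : E.hom (W.ι w) = s := hw
        rw [← hwy]
        exact hm
      · intro hx
        have hxy : E.hom x = s := connectedComponentIn_subset (E.hom ⁻¹' {s}) (η[E].left s) hx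
        have hxW : x ∈ (W : Set E.left) := by
          rw [hW]
          show x ∈ connectedComponentIn _ _
          rw [hxy]
          exact hx
        exact ⟨⟨x, hxW⟩, hxy, rfl⟩
    rw [h1]
    exact isCompact_unitComp_fibre s
  have hfin : (c ⁻¹' {MorLib.GF.pt yb}).Finite := by
    refine (finite_preimage_inter_compact c hK (MorLib.GF.pt yb)).subset fun w hw => ⟨hw, ?_⟩
    show (W.ι ≫ E.hom) w = s
    rw [show W.ι ≫ E.hom = c ≫ P.hom by rw [Category.assoc, Over.w], Scheme.Hom.comp_apply, Set.mem_singleton_iff.1 hw, hyb,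
      ← Scheme.Hom.comp_apply, Over.w η[P]]
    rfl
  haveI := MorLib.GF.finite_lifts c yb hfin
  let H : Set (T ⟶ M) := {m' | Set.range (m' ≫ u).left ⊆ unitComp E}
  have hH : H.Finite := by
    rw [← Set.finite_coe_iff]
    choose a ha using fun m' : H => exists_lift W hW ((m' : T ⟶ M) ≫ u) m'.2
    refine Finite.of_injective (fun m' : H => (⟨(a m').left, by
      have h1 : a m' ≫ compIncl W ≫ v = 1 := by
        rw [← Category.assoc, ha, Category.assoc, hex.2.2.1, MonObj.comp_one]
      exact (congrArg CommaMorphism.left h1).trans one_left⟩ : {δ : Spec (CommRingCat.of Ω) ⟶ (W : Scheme.{u}) // δ ≫ c = yb})) ?_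
    intro m₁ m₂ h
    have h1 : a m₁ = a m₂ := Over.OverMorphism.ext (congrArg Subtype.val h)
    exact Subtype.ext (ExtRigid.ker_inj hex (by rw [← ha, ← ha, h1]))
  have hpow : ∀ n : ℕ, m ^ n ∈ H := fun n => by
    induction n with
    | zero =>
      show Set.range _ ⊆ _
      rw [pow_zero, MonObj.one_comp, one_left]
      rintro _ ⟨t, rfl⟩
      exact unit_mem _
    | succ n ih =>
      show Set.range _ ⊆ _
      rw [pow_succ, MonObj.mul_comp]
      exact mul_mem W hW _ _ ih hm
  by_contra hnf
  push Not at hnf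
  exact Set.infinite_of_injective_forall_mem (injective_pow_iff_not_isOfFinOrder.2 fun ho => by
    obtain ⟨n, hn, h1⟩ := isOfFinOrder_iff_pow_eq_one.1 ho
    exact hnf n hn h1) hpow hH

end Groth.Agent.SGA7Const
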