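import Groth.Agent.SGA7Const.LatticeComp
import Groth.Agent.MorLib.GeomFibre
import Mathlib.AlgebraicGeometry.Morphisms.Etale

/-!
# The unit components surject on a connected quotient
-/

set_option autoImplicit false
set_option linter.style.haveILetI false
set_option backward.isDefEq.respectTransparency.types false

universe u

open CategoryTheory CategoryTheory.Limits MonoidalCategory CartesianMonoidalCategory MonObj GrpObj AlgebraicGeometry TopologicalSpace

attribute [local instance] CategoryTheory.Hom.monoid CategoryTheory.Hom.group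

namespace Groth.Agent.SGA7Const

variable {S : Scheme.{u}} {P E : Over S} [GrpObj P] [GrpObj E] (v : E ⟶ P) [IsMonHom v]
  (W : E.left.Opens) (hW : (W : Set E.left) = unitComp E)

/-- The geometric fibres of a connected smooth group are irreducible. -/
theorem irreducible_bc [LocallyOfFiniteType P.hom] [GeometricallyConnected P.hom] {Ω : Type u} [Field Ω]
    (h : Spec (CommRingCat.of Ω) ⟶ S) : IrreducibleSpace ↥(Red.bc h P).left := by
  let Pb : Over (Spec (CommRingCat.of Ω)) := Red.bc h P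
  letI : GrpObj Pb := Red.grpObj_bc h P
  haveI : GeometricallyConnected Pb.hom := inferInstanceAs (GeometricallyConnected (pullback.snd P.hom h))
  haveI : LocallyOfFiniteType Pb.hom := inferInstanceAs (LocallyOfFiniteType (pullback.snd P.hom h))
  haveI : ConnectedSpace ↥Pb.left := by
    have h1 := Pb.hom.isConnected_preimage_singleton (IsLocalRing.closedPoint Ω)
    have h2 : Pb.hom ⁻¹' {IsLocalRing.closedPoint Ω} = Set.univ :=
      Set.eq_univ_of_forall fun z => Subsingleton.elim (α := PrimeSpectrum Ω) (Pb.hom z) _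
    exact connectedSpace_iff_univ.2 (h2 ▸ h1)
  obtain ⟨G₀, _, i, _, -, -, hr, hgi, -⟩ := GrpSchLib.exists_identityComponent (G := Pb)
  rw [PreconnectedSpace.connectedComponent_eq_univ] at hr
  haveI := hgi
  haveI : IrreducibleSpace ↥G₀.left := GeometricallyIrreducible.irreducibleSpace_of_subsingleton G₀.hom
  have h3 : IsIrreducible (i.left '' Set.univ) :=
    ((irreducibleSpace_def _).1 inferInstance).image i.left i.left.continuous.continuousOn
  rw [Set.image_univ, hr] at h3
  exact (irreducibleSpace_def _).2 h3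

theorem nonempty_preimage {X : Over S} (f g : X ⟶ X) (h : g ≫ f = 𝟙 X) (U : Set X.left) (hU : U.Nonempty) :
    (f.left ⁻¹' U).Nonempty := by
  obtain ⟨z, hz⟩ := hU
  refine ⟨g.left z, ?_⟩
  have h1 : f.left (g.left z) = z := by
    rw [← Scheme.Hom.comp_apply, ← Over.comp_left, h]
    rfl
  rw [Set.mem_preimage, h1]
  exact hz

include hW in
/-- The unit components surject. -/
theorem surjective_comp [LocallyOfFiniteType P.hom] [GeometricallyConnected P.hom] [Etale v.left] :
    Surjective (W.ι ≫ v.left) := by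
  let c := W.ι ≫ v.left
  haveI : Etale c := inferInstanceAs (Etale (W.ι ≫ v.left))
  haveI : LocallyQuasiFinite c := inferInstance
  refine ⟨fun y => ?_⟩
  let Ω := AlgebraicClosure (P.left.residueField y)
  let yb : Spec (CommRingCat.of Ω) ⟶ P.left :=
    Spec.map (CommRingCat.ofHom (algebraMap (P.left.residueField y) Ω)) ≫ P.left.fromSpecResidueField y
  have hyb : yb (IsLocalRing.closedPoint Ω) = y := by
    rw [Scheme.Hom.comp_apply]
    exact Scheme.fromSpecResidueField_apply _ _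
  let Tb : Over S := Over.mk (yb ≫ P.hom)
  let yT : Tb ⟶ P := Over.homMk yb rfl
  haveI : IrreducibleSpace ↥(P ⊗ Tb).left := irreducible_bc (yb ≫ P.hom)
  let τ : P ⊗ Tb ⟶ P ⊗ Tb := lift ((snd P Tb ≫ yT) * fst P Tb) (snd P Tb)
  let τ' : P ⊗ Tb ⟶ P ⊗ Tb := lift ((snd P Tb ≫ yT)⁻¹ * fst P Tb) (snd P Tb)
  have hττ : τ' ≫ τ = 𝟙 _ := by
    apply CartesianMonoidalCategory.hom_ext
    · rw [Category.assoc, lift_fst, MonObj.comp_mul, ← Category.assoc, lift_snd, lift_fst, Category.id_comp,
        mul_inv_cancel_left]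
    · rw [Category.assoc, lift_snd, lift_snd, Category.id_comp]
  let U : Set ↥(P ⊗ Tb).left := (fst P Tb).left ⁻¹' Set.range c
  have hU : IsOpen U := c.isOpenMap.isOpen_range.preimage (fst P Tb).left.continuous
  let σ : Tb ⟶ P ⊗ Tb := lift 1 (𝟙 Tb)
  let z₀ := σ.left (IsLocalRing.closedPoint Ω)
  have hz₀ : z₀ ∈ U := by
    show (fst P Tb).left z₀ ∈ Set.range c
    rw [← Scheme.Hom.comp_apply, ← Over.comp_left, lift_fst, one_left, Scheme.Hom.comp_apply]
    generalize Tb.hom (IsLocalRing.closedPoint Ω) = s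
    refine ⟨⟨η[E].left s, ?_⟩, ?_⟩
    · show η[E].left s ∈ (W : Set E.left)
      rw [hW]
      exact unit_mem s
    · show v.left (η[E].left s) = _
      rw [← Scheme.Hom.comp_apply, ← Over.comp_left, IsMonHom.one_hom]
  obtain ⟨z, hz1, hz2⟩ := nonempty_preirreducible_inter hU (hU.preimage τ.left.continuous) ⟨z₀, hz₀⟩
    (nonempty_preimage τ τ' hττ U ⟨z₀, hz₀⟩)
  let Ω' := AlgebraicClosure ((P ⊗ Tb).left.residueField z)
  let zb : Spec (CommRingCat.of Ω') ⟶ (P ⊗ Tb).left :=
    Spec.map (CommRingCat.ofHom (algebraMap ((P ⊗ Tb).left.residueField z) Ω')) ≫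
      (P ⊗ Tb).left.fromSpecResidueField z
  have hzb : zb (IsLocalRing.closedPoint Ω') = z := by
    rw [Scheme.Hom.comp_apply]
    exact Scheme.fromSpecResidueField_apply _ _
  let T : Over S := Over.mk (zb ≫ (P ⊗ Tb).hom)
  let q : T ⟶ P ⊗ Tb := Over.homMk zb rfl
  have hlift : ∀ p : T ⟶ P, p.left (IsLocalRing.closedPoint Ω') ∈ Set.range c →
      ∃ a : T ⟶ compOver W, a ≫ compIncl W ≫ v = p := by
    rintro p ⟨w, hw⟩
    obtain ⟨δ, hδ, -⟩ := MorLib.GF.exists_lift (Ω := Ω') c p.left w hw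
    refine ⟨Over.homMk δ ?_, Over.OverMorphism.ext hδ⟩
    show δ ≫ W.ι ≫ E.hom = T.hom
    rw [← Over.w p, ← hδ, ← Over.w v]
    simp [c]
  obtain ⟨a₁, ha₁⟩ := hlift (q ≫ fst P Tb) (by
    rw [Over.comp_left, Scheme.Hom.comp_apply]
    exact hzb.symm ▸ hz1)
  obtain ⟨a₂, ha₂⟩ := hlift (q ≫ τ ≫ fst P Tb) (by
    rw [Over.comp_left, Over.comp_left, Scheme.Hom.comp_apply, Scheme.Hom.comp_apply]
    exact hzb.symm ▸ hz2)
  have hd : ((a₂ ≫ compIncl W) * (a₁ ≫ compIncl W)⁻¹) ≫ v = q ≫ snd P Tb ≫ yT := by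
    rw [MonObj.mul_comp, GrpObj.inv_comp, Category.assoc, Category.assoc, ha₁, ha₂, lift_fst, MonObj.comp_mul,
      mul_inv_cancel_right]
  obtain ⟨a₃, ha₃⟩ := exists_lift W hW ((a₂ ≫ compIncl W) * (a₁ ≫ compIncl W)⁻¹)
    (mul_mem W hW _ _ (range_incl_subset W hW a₂) (inv_mem W hW _ (range_incl_subset W hW a₁)))
  refine ⟨a₃.left (IsLocalRing.closedPoint Ω'), ?_⟩
  rw [← ha₃] at hd
  have h3 : a₃.left ≫ c = (q ≫ snd P Tb).left ≫ yb := by
    have := congrArg CommaMorphism.left hd
    simpa [c, yT] using this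
  show (W.ι ≫ v.left) _ = y
  rw [← Scheme.Hom.comp_apply, h3, Scheme.Hom.comp_apply,
    Subsingleton.elim (α := PrimeSpectrum Ω) ((q ≫ snd P Tb).left (IsLocalRing.closedPoint Ω')) (IsLocalRing.closedPoint Ω)]
  exact hyb

end Groth.Agent.SGA7Const
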