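import Groth.Agent.S1327
import Groth.Agent.GeomLoci.SectNhd
import Groth.Agent.EtFound.SectionUnr
import Groth.Agent.EtFound.TopInv
import Groth.Agent.FlatDvrVC5.SchemePoint
import Groth.Agent.GrpSchLib.SmoothReduced

/-!
# Sections of étale separated schemes over a smooth family with connected fibres
-/

set_option autoImplicit false
set_option linter.style.haveILetI false
set_option backward.isDefEq.respectTransparency.types false

universe u

open CategoryTheory CategoryTheory.Limits AlgebraicGeometry TopologicalSpace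

namespace Groth.Agent.SGA7Const

variable {S P E : Scheme.{u}} (f : E ⟶ P) [Etale f] [IsSeparated f] (p : P ⟶ S) [GeometricallyConnected p]
  (e : S ⟶ P) (he : e ≫ p = 𝟙 S)

include he in
/-- Two sections which agree along `e` are equal. -/
theorem section_ext (g₁ g₂ : P ⟶ E) (h₁ : g₁ ≫ f = 𝟙 P) (h₂ : g₂ ≫ f = 𝟙 P) (h : e ≫ g₁ = e ≫ g₂) :
    g₁ = g₂ := by
  have key : ∀ (a b : P ⟶ E), a ≫ f = 𝟙 P → b ≫ f = 𝟙 P → e ≫ a = e ≫ b →
      Set.range a.base ⊆ Set.range b.base := by
    rintro a b ha hb hab _ ⟨y, rfl⟩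
    have := EtFound.isOpenImmersion_section f b hb
    have hW : IsClopen (a ⁻¹' Set.range b) :=
      ⟨(EtFound.isClosed_range_section f b hb).preimage a.continuous,
        b.isOpenEmbedding.isOpen_range.preimage a.continuous⟩
    have hpe : ∀ s, p (e s) = s := fun s => by rw [← Scheme.Hom.comp_apply, he]; rfl
    exact (p.isConnected_preimage_singleton (p y)).isPreconnected.subset_isClopen hW
      ⟨e (p y), hpe _, e (p y), by rw [← Scheme.Hom.comp_apply, ← hab, Scheme.Hom.comp_apply]⟩ (show p y = p y from rfl)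
  exact EtFound.section_eq_of_range_eq f g₂ g₁ h₂ h₁
    (Set.Subset.antisymm (key g₁ g₂ h₁ h₂ h) (key g₂ g₁ h₂ h₁ h.symm))

variable [Smooth p] [QuasiCompact p] [QuasiSeparated p] (e' : S ⟶ E) (he' : e' ≫ f = e)

include he he' in
theorem isOpen_sectionComponents : IsOpen (MoreMor.sectionComponents (f ≫ p) e') := by
  let q := f ≫ p
  have hs : e' ≫ q = 𝟙 S := by rw [reassoc_of% he']; exact he
  refine isOpen_iff_mem_nhds.2 fun x hx => ?_
  obtain ⟨D⟩ := GeomLoci.exists_piece q e' hs (fun V hV => by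
      haveI : IsAffine (V : Scheme.{u}) := hV
      haveI : QuasiSeparatedSpace ↥((q ⁻¹ᵁ V : E.Opens) : Scheme.{u}) :=
        quasiSeparatedSpace_of_quasiSeparated (q ∣_ V)
      exact isQuasiSeparated_iff_quasiSeparatedSpace ((q ⁻¹ᵁ V : E.Opens) : Set E) (q ⁻¹ᵁ V).isOpen |>.2 ‹_›) (show x ∈ connectedComponentIn (q.base ⁻¹' {q x}) (e'.base (q x)) from hx)
  haveI := D.open_j; haveI := D.open_i; haveI := D.affine; haveI := D.qc; haveI := D.qs
  haveI : QuasiSeparated D.f' := QuasiSeparated.of_comp D.f' (terminal.from _)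
  haveI : Smooth D.f' := by
    have h1 : Smooth (D.f' ≫ D.i) := by rw [D.hw]; infer_instance
    have h2 := FlatDvrVC5.isPullback_comp_mono D.i (IsPullback.of_id_fst (f := D.f'))
    exact MorphismProperty.of_isPullback (P := @Smooth) h2 h1
  haveI : GeometricallyReduced D.f' := by
    constructor
    intro L _ y P' fst snd h
    haveI : Smooth snd := MorphismProperty.of_isPullback h inferInstance
    exact GrpSchLib.isReduced_of_smooth_field snd
  have hC : MoreMor.sectionComponents D.f' D.g' ∈ nhds D.x' :=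
    mem_interior_iff_mem_nhds.1 (Groth.Agent.S1327.result D.f' D.g' D.hg' (D.f' D.x') inferInstance D.hmem)
  rw [← D.hx']
  exact Filter.mem_of_superset (D.j.isOpenEmbedding.isOpenMap.image_mem_nhds hC)
    (GeomLoci.image_sectionComponents_subset q e' D.f' D.g' D.hg' D.j D.i D.hw D.hgw)

include he he' in
/-- A section extending `e'` exists if it does on each fibre. -/
theorem exists_section
    (ht : ∀ s : S, ∃ t : pullback p (S.fromSpecResidueField s) ⟶ E,
      t ≫ f = pullback.fst p (S.fromSpecResidueField s) ∧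
      pullback.lift (S.fromSpecResidueField s ≫ e) (𝟙 _) (by simp [he]) ≫ t = S.fromSpecResidueField s ≫ e') :
    ∃ g : P ⟶ E, g ≫ f = 𝟙 P ∧ e ≫ g = e' := by
  let q := f ≫ p
  have hs : e' ≫ q = 𝟙 S := by rw [reassoc_of% he']; exact he
  have fib : ∀ (s : S) (t : pullback p (S.fromSpecResidueField s) ⟶ E),
      t ≫ f = pullback.fst p (S.fromSpecResidueField s) →
      pullback.lift (S.fromSpecResidueField s ≫ e) (𝟙 _) (by simp [he]) ≫ t = S.fromSpecResidueField s ≫ e' →
      connectedComponentIn (q ⁻¹' {s}) (e' s) = Set.range t.base ∧ IsPreimmersion t := by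
    intro s t htf hte
    let ι := pullback.fst p (S.fromSpecResidueField s)
    let m := pullback.fst f ι
    let σ := pullback.lift t (𝟙 _) (htf.trans (Category.id_comp ι).symm)
    have hσ : σ ≫ pullback.snd f ι = 𝟙 _ := pullback.lift_snd _ _ _
    have hσm : σ ≫ m = t := pullback.lift_fst _ _ _
    haveI := EtFound.isOpenImmersion_section (pullback.snd f ι) σ hσ
    haveI : IsPreimmersion m := inferInstance
    have hclop : IsClopen (Set.range σ) :=
      ⟨EtFound.isClosed_range_section (pullback.snd f ι) σ hσ, σ.isOpenEmbedding.isOpen_range⟩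
    have hι : Set.range ι = p ⁻¹' {s} := p.range_fiberι s
    have hm : Set.range m = q ⁻¹' {s} := by
      rw [Scheme.Pullback.range_fst, hι]
      rfl
    haveI : ConnectedSpace ↥(pullback p (S.fromSpecResidueField s)) :=
      inferInstanceAs (ConnectedSpace (p.fiber s))
    have hsub : Set.range t ⊆ q ⁻¹' {s} := by
      rw [← hσm, ← hm]
      rintro _ ⟨w, rfl⟩
      exact ⟨σ w, rfl⟩
    have hmem : e' s ∈ Set.range t := by
      refine ⟨pullback.lift (S.fromSpecResidueField s ≫ e) (𝟙 _) (by simp [he]) (IsLocalRing.closedPoint _), ?_⟩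
      rw [← Scheme.Hom.comp_apply, hte, Scheme.Hom.comp_apply, Scheme.fromSpecResidueField_apply]
    refine ⟨Set.Subset.antisymm ?_ ((isPreconnected_range t.continuous).subset_connectedComponentIn hmem hsub), ?_⟩
    · intro x hx
      obtain ⟨w, hw⟩ : x ∈ Set.range m := by
        rw [hm]
        exact connectedComponentIn_subset _ _ hx
      obtain ⟨w₀, hw₀⟩ := hmem
      have hpre : _root_.IsPreconnected (m ⁻¹' connectedComponentIn (q ⁻¹' {s}) (e' s)) := by
        rw [← m.isEmbedding.isInducing.isPreconnected_image, Set.image_preimage_eq_of_subset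
          (hm.symm ▸ connectedComponentIn_subset _ _)]
        exact isPreconnected_connectedComponentIn
      have h0 : m (σ w₀) = e' s := by rw [← Scheme.Hom.comp_apply, hσm]; exact hw₀
      obtain ⟨v, hv⟩ := hpre.subset_isClopen hclop ⟨σ w₀, by
        show m (σ w₀) ∈ connectedComponentIn (q ⁻¹' {s}) (e' s)
        rw [h0]
        exact mem_connectedComponentIn (by rw [← hm, ← h0]; exact ⟨_, rfl⟩), w₀, rfl⟩
        (show m w ∈ connectedComponentIn (q ⁻¹' {s}) (e' s) by rw [hw]; exact hx)
      exact ⟨v, by rw [← hσm, Scheme.Hom.comp_apply, hv, hw]⟩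
    · rw [← hσm]
      infer_instance
  let U : E.Opens := ⟨_, isOpen_sectionComponents f p e he e' he'⟩
  let c := U.ι ≫ f
  have hU : ∀ (y : P) (s : S) (t : pullback p (S.fromSpecResidueField s) ⟶ E),
      connectedComponentIn (q ⁻¹' {s}) (e' s) = Set.range t.base →
      ∀ w, q (t w) = s → t w ∈ U := by
    intro y s t hr w hw
    show t w ∈ connectedComponentIn (q ⁻¹' {q (t w)}) (e' (q (t w)))
    rw [hw, hr]
    exact ⟨w, rfl⟩
  haveI : Surjective c := ⟨fun y => by
    obtain ⟨t, htf, hte⟩ := ht (p y)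
    obtain ⟨hr, -⟩ := fib _ t htf hte
    obtain ⟨w, hw⟩ := (p.range_fiberι (p y)).ge (show y ∈ p ⁻¹' {p y} from rfl)
    have h1 : f (t w) = y := by
      rw [← Scheme.Hom.comp_apply, htf]
      exact hw
    have h2 : q (t w) = p y := by rw [Scheme.Hom.comp_apply, h1]
    exact ⟨⟨t w, hU y _ t hr w h2⟩, h1⟩⟩
  haveI : UniversallyInjective c := by
    refine ((tfae_universallyInjective c).out 0 1).2 ?_
    intro K _ a b hab
    let pt : ↥(Spec (CommRingCat.of K)) := IsLocalRing.closedPoint K
    have hab' : (a ≫ U.ι) ≫ f = (b ≫ U.ι) ≫ f := by simpa [c] using hab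
    let s := q ((a ≫ U.ι) pt)
    have hsb : q ((b ≫ U.ι) pt) = s := by
      show p (f _) = p (f _)
      rw [← Scheme.Hom.comp_apply _ f, ← Scheme.Hom.comp_apply _ f, hab']
    obtain ⟨t, htf, hte⟩ := ht s
    obtain ⟨hr, hpre⟩ := fib _ t htf hte
    have hlift : ∀ d : Spec (CommRingCat.of K) ⟶ U, q ((d ≫ U.ι) pt) = s → ∃ l, l ≫ t = d ≫ U.ι := by
      intro d hd
      haveI : Surjective (pullback.fst (d ≫ U.ι) t) := ⟨fun z => by
        obtain rfl : pt = z := Subsingleton.elim (α := PrimeSpectrum K) _ _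
        have hmem : (d ≫ U.ι) pt ∈ connectedComponentIn (q ⁻¹' {s}) (e' s) := by
          rw [← hd]
          exact (d pt).2
        rw [hr] at hmem
        obtain ⟨w, hw⟩ := hmem
        obtain ⟨r, hr', -⟩ := Scheme.Pullback.exists_preimage_pullback (f := d ≫ U.ι) (g := t) pt w hw.symm
        exact ⟨r, hr'⟩⟩
      haveI : IsClosedImmersion (pullback.fst (d ≫ U.ι) t) := .of_isPreimmersion _ (by
        rw [Set.range_eq_univ.2 (pullback.fst (d ≫ U.ι) t).surjective]; exact isClosed_univ)
      haveI : IsIso (pullback.fst (d ≫ U.ι) t) := isIso_of_isClosedImmersion_of_surjective _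
      exact ⟨inv (pullback.fst (d ≫ U.ι) t) ≫ pullback.snd (d ≫ U.ι) t,
        by rw [Category.assoc, ← pullback.condition, IsIso.inv_hom_id_assoc]⟩
    obtain ⟨la, hla⟩ := hlift a rfl
    obtain ⟨lb, hlb⟩ := hlift b hsb
    have hl : la = lb := by
      rw [← cancel_mono (pullback.fst p (S.fromSpecResidueField s)), ← htf, reassoc_of% hla, reassoc_of% hlb]
      exact hab
    rw [← cancel_mono U.ι, ← hla, ← hlb, hl]
  haveI : IsOpenImmersion c := EtFound.isOpenImmersion_of_etale_univInj c
  haveI : IsIso c := (isIso_iff_isOpenImmersion_and_surjective _).2 ⟨inferInstance, inferInstance⟩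
  have hrange : Set.range e' ⊆ Set.range U.ι := by
    rintro _ ⟨s, rfl⟩
    rw [Scheme.Opens.range_ι]
    show e' s ∈ connectedComponentIn (q ⁻¹' {q (e' s)}) (e' (q (e' s)))
    have h1 : q (e' s) = s := by rw [← Scheme.Hom.comp_apply, hs]; rfl
    rw [h1]
    exact mem_connectedComponentIn h1
  refine ⟨inv c ≫ U.ι, by simp [c], ?_⟩
  have h2 : IsOpenImmersion.lift U.ι e' hrange ≫ c = e := by
    rw [IsOpenImmersion.lift_fac_assoc, he']
  rw [← h2, Category.assoc, IsIso.hom_inv_id_assoc, IsOpenImmersion.lift_fac]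

end Groth.Agent.SGA7Const
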